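import Cfsg.Agent.H35.U6E.Ext
import Cfsg.Agent.H38.U6C.Stmts
import Cfsg.Agent.H2.U6E.Setup

/-!
The data of S3231 with a fixed plane read on the model, in the form used by the transfer.
-/

set_option autoImplicit false
set_option maxRecDepth 100000

namespace H35.U6E

open H38.U6C

theorem tauP_split : ∀ t : Fin 4, ∀ v : V,
    tauP t v = vadd (lowV v) (tauP t (highV v)) := by decide +kernel

theorem tauP_low : ∀ t : Fin 4, ∀ v : V, v.val < 64 → tauP t v = v := by decide +kernel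

theorem tauP_plane : ∀ t : Fin 4, ∀ k : Fin 4, ∃ l : Fin 4, tauP t (planeV k) = planeV l := by
  decide +kernel

universe u

variable {G : Type u} [Group G] [Finite G] {z : G} {J H₀ : Subgroup G} {m : Bool} {t : Fin 4}
  {φ : G → V} {ρ : ↥(Subgroup.centralizer ({z} : Set G)) →* Equiv.Perm V}

theorem FixCtx.refl_not (hc : FixCtx z J H₀ m t φ ρ)
    (hconj : ∀ g ∈ Subgroup.centralizer ({z} : Set G), ∀ h ∈ H₀, g * h * g⁻¹ ∈ H₀)
    (hinner : ∀ g ∈ Subgroup.centralizer ({z} : Set G),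
      (∀ h ∈ H₀, g * h * g⁻¹ * h⁻¹ ∈ J) → g ∈ H₀) : refl8 3 ∉ oGroup := by
  intro h3
  obtain ⟨g, hg, hgt⟩ := hc.outer
  obtain ⟨h, hh, he⟩ : ∃ h : ↥(Subgroup.centralizer ({z} : Set G)), (h : G) ∈ H₀ ∧ ρ h = refl8 3 := by
    rw [← hc.range₀] at h3
    exact h3
  have hρ : ρ (h⁻¹ * g) = tauP t := by
    rw [map_mul, map_inv, he, hgt, outP]
    group
  refine hg ?_
  have hmem : ((h⁻¹ * g : ↥(Subgroup.centralizer ({z} : Set G))) : G) ∈ H₀ := by
    refine hinner _ (h⁻¹ * g).2 fun k hk => ?_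
    set k' : ↥(Subgroup.centralizer ({z} : Set G)) := ⟨k, hc.le_cent hk⟩
    have ho : ρ k' ∈ oGroup := hc.range₀ ▸ ⟨k', hk, rfl⟩
    have hadd : ∀ a b, ρ k' (vadd a b) = vadd (ρ k' a) (ρ k' b) := fun a b => by
      obtain ⟨x, hx, rfl⟩ := hc.φ_surj a
      obtain ⟨y, hy, rfl⟩ := hc.φ_surj b
      rw [← hc.φ_mul x hx y hy, ← hc.ρ_φ _ _ (J.mul_mem hx hy), ← hc.ρ_φ _ _ hx, ← hc.ρ_φ _ _ hy,
        ← hc.φ_mul _ (hc.conj_mem _ k'.2 x hx) _ (hc.conj_mem _ k'.2 y hy)]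
      congr 1
      group
    have hadd2 : ∀ a b : V, a.val < 64 → ∀ i : Fin 4,
        b = planeV i → tauP t (vadd a b) = vadd a (tauP t b) := by
      have : ∀ t : Fin 4, ∀ a : V, a.val < 64 → ∀ i : Fin 4,
          tauP t (vadd a (planeV i)) = vadd a (tauP t (planeV i)) := by decide +kernel
      rintro a b ha i rfl
      exact this t a ha i
    have hcm : ρ (h⁻¹ * g) * ρ k' = ρ k' * ρ (h⁻¹ * g) := by
      rw [hρ]
      refine Equiv.ext fun v => ?_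
      obtain ⟨e, hl, i, hi⟩ := lowhigh v
      obtain ⟨l, hl'⟩ := tauP_plane t i
      rw [Equiv.Perm.mul_apply, Equiv.Perm.mul_apply, e, hadd, hi, (oGroup_high ho 0).2 i,
        hadd2 _ _ (oGroup_low ho hl) i rfl, hadd2 _ _ hl i rfl, hl', hadd,
        (oGroup_high ho 0).2 l]
    have h1 : ρ ((h⁻¹ * g) * k' * (h⁻¹ * g)⁻¹ * k'⁻¹) = 1 := by
      rw [map_mul, map_mul, map_mul, map_inv, map_inv, hcm]
      group
    exact (hc.ρ_ker _).mp h1
  rw [Subgroup.coe_mul, Subgroup.coe_inv] at hmem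
  exact (Subgroup.mul_mem_cancel_left H₀ (H₀.inv_mem hh)).mp hmem

/-- The data of the transfer from those of S3231 and two fixed dimensions on the inner
subgroup. -/
theorem exists_data.{v} {G : Type u} [Group G] [Finite G] {F : Type v} [Field F] [Fintype F] {z : G}
    {J H₀ : Subgroup G} {π : ↥H₀ →* Cfsg.PSp 2 F} (S : H2.U6E.Setup z J H₀ π)
    (hinner : ∀ g ∈ Subgroup.centralizer ({z} : Set G),
      (∀ h ∈ H₀, g * h * g⁻¹ * h⁻¹ ∈ J) → g ∈ H₀)
    (hfix : Fix8Stmt.{u, v}) {U : Subgroup ↥H₀}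
    (hU : Fixed2 (⟨z, S.J_le S.z_mem⟩ : ↥H₀) (J.subgroupOf H₀) U) :
    ∃ (m : Bool) (t : Fin 4) (φ : G → V)
      (ρ : ↥(Subgroup.centralizer ({z} : Set G)) →* Equiv.Perm V),
      FixCtx z J H₀ m t φ ρ ∧ refl8 3 ∉ oGroup ∧
        ∀ f : ↥H₀ →* ℤˣ, (∀ j : ↥H₀, (j : G) ∈ J → f j = 1) → f = 1 := by
  obtain ⟨m, φ₀, ρ₀, hF⟩ := hfix S.base hU
  obtain ⟨t, φ, ρ, hc⟩ := ext z J H₀ S.sq S.ne_one S.le_cent S.J_le S.z_mem S.card_J S.conj_mem
    S.conj_H₀ S.self_cent hinner S.card_cent S.card_H₀ m φ₀ ρ₀ hF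
  refine ⟨m, t, φ, ρ, hc, hc.refl_not S.conj_H₀ hinner, fun f hf => ?_⟩
  have := S.simple_psp
  have hker : π.ker ≤ f.ker := fun x hx => hf x ((S.π_ker x).mp hx)
  set f' : Cfsg.PSp 2 F →* ℤˣ := MonoidHom.liftOfSurjective π S.π_surj ⟨f, hker⟩ with hf'
  have h1 : f'.ker = ⊤ := by
    rcases IsSimpleGroup.eq_bot_or_eq_top_of_normal f'.ker (MonoidHom.normal_ker f') with h | h
    · exfalso
      have := Nat.card_le_card_of_injective f' ((MonoidHom.ker_eq_bot_iff f').mp h)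
      rw [S.card_psp, Nat.card_eq_fintype_card, Fintype.card_units_int] at this
      omega
    · exact h
  refine MonoidHom.ext fun x => ?_
  have h2 : f' (π x) = 1 := MonoidHom.mem_ker.mp (h1 ▸ Subgroup.mem_top _)
  rw [hf', MonoidHom.liftOfRightInverse_comp_apply] at h2
  exact h2

end H35.U6E
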