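import Cfsg.Agent.H64.U6E.Elems

/-!
An outer element with square in the plane moves the cosets at which its square is outside in
classes of size divisible by four.
-/

set_option autoImplicit false
set_option maxRecDepth 100000
set_option linter.unusedSectionVars false

namespace H35.U6E

open H38.U6C H64.U6E MulAction
open H50.U6C (vadd_self vadd_zero')

theorem two_facts : ∀ m : Bool, pol8 m 3 3 = false ∧ InE 8 ∧ InE 12 ∧ InE 16 ∧ InE 32 ∧
    InE 48 := by decide +kernel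

universe u

variable {G : Type u} [Group G] {z : G} {J H₀ : Subgroup G} {m : Bool} {t : Fin 4} {φ : G → V}
  {ρ : ↥(Subgroup.centralizer ({z} : Set G)) →* Equiv.Perm V}

/-- The two-group over the outer action commuting with `w`. -/
def fixGrp (t : Fin 4) (ρ : ↥(Subgroup.centralizer ({z} : Set G)) →* Equiv.Perm V) (w : G) :
    Subgroup G :=
  ((Subgroup.zpowers (outP t)).comap ρ).map (Subgroup.centralizer ({z} : Set G)).subtype ⊓
    Subgroup.centralizer {w}

theorem mem_fixGrp {w x : G} (hx : x ∈ Subgroup.centralizer ({z} : Set G))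
    (hρ : ρ ⟨x, hx⟩ ∈ Subgroup.zpowers (outP t)) (hc : Commute x w) : x ∈ fixGrp t ρ w :=
  ⟨⟨⟨x, hx⟩, hρ, rfl⟩, Subgroup.mem_centralizer_singleton_iff.2 hc.eq⟩

theorem fixGrp_two (hc : FixCtx z J H₀ m t φ ρ) (w : G) : IsPGroup 2 (fixGrp t ρ w) := by
  rintro ⟨x, ⟨x, hx, rfl⟩, -⟩
  refine ⟨3, Subtype.ext ?_⟩
  obtain ⟨k, hk⟩ := Subgroup.mem_zpowers_iff.1 hx
  have hk2 : ρ (x * x) = 1 := by
    rw [map_mul, ← hk, ← (Commute.refl (outP t)).mul_zpow,
      show outP t * outP t = 1 from Equiv.ext fun v => out_invol t v, one_zpow]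
  have hJ := (hc.ρ_ker _).1 hk2
  rw [Subgroup.coe_mul] at hJ
  show (x : G) ^ 2 ^ 3 = 1
  rw [show (x : G) ^ 2 ^ 3 = (x : G) * x * (x * x) * ((x : G) * x * (x * x)) by
    simp [pow_succ, mul_assoc]]
  rw [hc.φ_sq _ hJ]
  split
  · exact hc.sq
  · exact one_mul 1

variable {g : G}

/-- The sign at a fixed coset depends on the image only. -/
theorem out_congr (hc : FixCtx z J H₀ m t φ ρ)
    {c : G ⧸ Subgroup.centralizer ({z} : Set G)} (hzc : z • c = c) (hz : ¬ Out H₀ c z)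
    {a b : G} (ha : a ∈ J) (hb : b ∈ J) (hac : a • c = c) (h : φ a = φ b) :
    Out H₀ c b ↔ Out H₀ c a := by
  rcases eq_or hc ha hb h with e | e <;> rw [e]
  rw [out_mul_iff (relIndex_two hc) hac hzc, iff_false_right hz, not_not]

/-- An element over a permutation fixing an image commutes with a preimage. -/
theorem exists_comm (hc : FixCtx z J H₀ m t φ ρ) {y : G} (hy : y ∈ J) {s : Equiv.Perm V}
    (hs : s ∈ oGroup) (hfix : s (φ y) = φ y) (hflip : ∃ v, pol8 m v (φ y) = true) :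
    ∃ x, ∃ hx : x ∈ Subgroup.centralizer ({z} : Set G), Commute x y ∧ ρ ⟨x, hx⟩ = s := by
  obtain ⟨h, -, hρ⟩ : s ∈ (H₀.subgroupOf (Subgroup.centralizer ({z} : Set G))).map ρ :=
    hc.range₀.symm ▸ hs
  rcases eq_or hc hy (hc.conj_mem h h.2 y hy) (by rw [hc.ρ_φ h y hy, hρ, hfix]) with e | e
  · exact ⟨h, h.2, mul_inv_eq_iff_eq_mul.1 e, hρ⟩
  · obtain ⟨v, hv⟩ := hflip
    obtain ⟨a, ha, rfl⟩ := hc.φ_surj v
    have haC := J_cent hc ha
    refine ⟨a * h, (Subgroup.centralizer _).mul_mem haC h.2, ?_, ?_⟩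
    · refine mul_inv_eq_iff_eq_mul.1 ?_
      rw [show a * (h : G) * y * (a * (h : G))⁻¹ = a * ((h : G) * y * (h : G)⁻¹) * a⁻¹ by group, e,
        show a * (y * z) * a⁻¹ = a * y * a⁻¹ * (a * z * a⁻¹) by group, conj_pol hc ha hy, if_pos hv,
        mul_inv_eq_iff_eq_mul.2 (H64.U6E.z_comm hc haC).eq, mul_z_z hc]
    · rw [show (⟨a * h, _⟩ : ↥(Subgroup.centralizer ({z} : Set G))) = ⟨a, haC⟩ * h from rfl,
        map_mul, (hc.ρ_ker ⟨a, haC⟩).2 ha, one_mul, hρ]

variable [Finite G]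

/-- At a coset where the square is outside no class has size two. -/
theorem no_pair (hc : FixCtx z J H₀ m t φ ρ) (hr : refl8 3 ∉ oGroup)
    (E : Elt z J H₀ m t φ ρ g) (ht : t ≠ 0) {c : G ⧸ Subgroup.centralizer ({z} : Set G)}
    (hgc : g • c ≠ c) (hwc : (g * g) • c = c) (ho : Out H₀ c (g * g))
    (hall : ∀ a ∈ fixGrp t ρ (g * g), a • c = c ∨ a • c = g • c) : False := by
  have hidx := relIndex_two hc
  obtain ⟨hwJ, hwφ⟩ := E.succ ht
  -- the part of the core orthogonal to the image of the square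
  have hQ : ∀ j ∈ J, pol8 m (φ j) (plv t) = false → j • c = c ∨ j • c = g • c := fun j hj hv => by
    refine hall j (mem_fixGrp (J_cent hc hj) ?_ ((comm_iff hc hj hwJ).2 (by rw [hwφ, hv])))
    rw [(hc.ρ_ker ⟨j, _⟩).2 hj]
    exact one_mem _
  obtain ⟨hE8, hE12, hE16, hE32, hE48⟩ := (two_facts m).2
  -- the centre fixes the coset
  obtain ⟨e, he, hec, heq⟩ : ∃ e ∈ J, e • c = c ∧ e * e = z := by
    obtain ⟨a, ha, ha'⟩ := hc.φ_surj 16
    obtain ⟨b, hb, hb'⟩ := hc.φ_surj 32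
    obtain ⟨-, q16, q32, q48⟩ := pol_misc m
    rcases hQ a ha (by rw [ha']; exact plv_low m t 16 (by decide)) with h | h
    · exact ⟨a, ha, h, (q_ite hc ha).1 (by rw [ha', q16])⟩
    rcases hQ b hb (by rw [hb']; exact plv_low m t 32 (by decide)) with h' | h'
    · exact ⟨b, hb, h', (q_ite hc hb).1 (by rw [hb', q32])⟩
    refine ⟨a * b, J.mul_mem ha hb, ?_, (q_ite hc (J.mul_mem ha hb)).1 ?_⟩
    · rw [mul_smul, h', ← mul_smul, ← (E.comm_E a ha (ha' ▸ hE16)).eq, mul_smul, h, ← mul_smul,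
        hwc]
    · rw [hc.φ_mul a ha b hb, ha', hb', show vadd (16 : V) 32 = 48 by decide, q48]
  have hzc : z • c = c := by
    have h := mul_smul e e c
    rwa [heq, hec, hec] at h
  have hzo : ¬ Out H₀ c z := heq ▸ sq_not_out hidx hec
  -- the part orthogonal to `3` fixes the coset
  have hfix : ∀ j ∈ J, pol8 m (φ j) (plv t) = false → pol8 m (φ j) 3 = false → j • c = c := by
    intro j hj hu h3
    rcases hQ j hj hu with h | h
    · exact h
    exfalso
    have hx : (g⁻¹ * j) • c = c := by rw [mul_smul, h, inv_smul_smul]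
    have hgi : g⁻¹ ∈ Subgroup.centralizer ({z} : Set G) := inv_mem E.mem
    have hρi : ρ ⟨g⁻¹, hgi⟩ = outP t := by
      rw [show (⟨g⁻¹, hgi⟩ : ↥(Subgroup.centralizer ({z} : Set G))) = ⟨g, E.mem⟩⁻¹ from rfl,
        map_inv, E.rho]
      exact inv_eq_of_mul_eq_one_right (Equiv.ext fun v => out_invol t v)
    have hm := hc.conj_mem _ hgi j hj
    have hwi := J.inv_mem hwJ
    have e1 : g⁻¹ * j * (g⁻¹ * j) = g⁻¹ * j * g⁻¹⁻¹ * ((g * g)⁻¹ * j) := by group
    have hsq : φ (g⁻¹ * j * (g⁻¹ * j)) = plv t := by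
      rw [e1, hc.φ_mul _ hm _ (J.mul_mem hwi hj), hc.φ_mul _ hwi _ hj, φ_inv hc hwJ, hwφ,
        φ_conj hc hgi hj, hρi, ← H50.U6C.vadd_assoc, H50.U6C.vadd_comm _ (plv t), H50.U6C.vadd_assoc,
        plane_orth m t hc.plane ht _ hu, h3, if_neg Bool.false_ne_true, vadd_zero']
    have hJx : g⁻¹ * j * (g⁻¹ * j) ∈ J := by
      rw [e1]
      exact J.mul_mem hm (J.mul_mem hwi hj)
    exact sq_not_out hidx hx
      ((out_congr hc hzc hzo hwJ hJx hwc (hwφ.trans hsq.symm)).2 ho)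
  set y := pnt c with hy
  have hyy : y * y = 1 := pnt_sq hc.sq c
  have hyC : y ∈ Subgroup.centralizer ({z} : Set G) :=
    Subgroup.mem_centralizer_singleton_iff.2 ((smul_eq_iff z c).1 hzc).symm.eq
  have hcy : ∀ j ∈ J, j • c = c → Commute y j := fun j _ h => ((smul_eq_iff j c).1 h).symm
  have hEv : ∀ v : V, InE v → pol8 m v (plv t) = false ∧ pol8 m v 3 = false := fun v hv =>
    ⟨plv_low m t v hv.1, by rw [H64.U6E.pol8_comm]; exact pol_F_E m 3 v (by decide) hv⟩
  have h33 : pol8 m 3 (plv t) = false ∧ pol8 m 3 3 = false :=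
    ⟨plv_low m t 3 (by decide), (two_facts m).1⟩
  have hu3 : pol8 m (plv t) (plv t) = false ∧ pol8 m (plv t) 3 = false := by
    refine ⟨(plv_self m t).1, ?_⟩
    rw [H64.U6E.pol8_comm]
    exact h33.1
  have hcomm : ∀ j ∈ J, InE (φ j) ∨ φ j = 3 ∨ φ j = plv t → Commute y j := fun j hj h => by
    refine hcy j hj (hfix j hj ?_ ?_) <;> rcases h with h | h | h
    · exact (hEv _ h).1
    · rw [h]; exact h33.1
    · rw [h]; exact hu3.1
    · exact (hEv _ h).2
    · rw [h]; exact h33.2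
    · rw [h]; exact hu3.2
  -- inner elements commuting with these lie in the core
  have hrigid : ∀ x, ∀ hx : x ∈ H₀,
      (∀ v : V, InE v ∨ v = 3 → ρ ⟨x, hc.le_cent hx⟩ v = v) → x ∈ J := fun x hx hv => by
    have ho := inner_range hc hx
    obtain ⟨t1, t2, t3⟩ := oGroup_top ho
    rcases fix_cases m (ρ_add hc ⟨x, hc.le_cent hx⟩) (ρ_q hc ⟨x, hc.le_cent hx⟩) t1 t2
      (t3 1 (by decide)) (hv 3 (Or.inr rfl)) (fun v h => hv v (Or.inl h)) with h | h
    · exact (hc.ρ_ker ⟨x, hc.le_cent hx⟩).1 (Equiv.ext h)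
    · exact absurd ((show ρ ⟨x, hc.le_cent hx⟩ = refl8 3 from Equiv.ext h) ▸ ho) hr
  have hyfix : ∀ v : V, InE v ∨ v = 3 → ρ ⟨y, hyC⟩ v = v := fun v hv => by
    obtain ⟨j, hj, rfl⟩ := hc.φ_surj v
    exact ρ_fix_of_comm hc hyC hj (hcomm j hj (hv.imp id Or.inl))
  have hyH : y ∈ H₀ := by
    by_contra hyn
    have hgi : g⁻¹ * y ∈ H₀ := by
      have := (Subgroup.mul_mem_iff_of_index_two hidx
        (a := (⟨g, E.mem⟩ : ↥(Subgroup.centralizer ({z} : Set G)))⁻¹) (b := ⟨y, hyC⟩)).2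
        (iff_of_false (fun h => E.not_mem (by
          have h2 := (H₀.subgroupOf _).inv_mem h
          rwa [inv_inv] at h2)) hyn)
      exact this
    have hjJ : g⁻¹ * y ∈ J := hrigid _ hgi fun v hv => by
      have hout : outP t v = v := by
        rcases hv with h | rfl
        · exact out_fixE t v h
        · exact (out_one t).2
      rw [show (⟨g⁻¹ * y, hc.le_cent hgi⟩ : ↥(Subgroup.centralizer ({z} : Set G))) =
        ⟨g, E.mem⟩⁻¹ * ⟨y, hyC⟩ from rfl, map_mul, map_inv, E.rho, Equiv.Perm.mul_apply,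
        hyfix v hv, Equiv.Perm.inv_eq_iff_eq, hout]
    set j := g⁻¹ * y with hj
    have hyj : y = g * j := by rw [hj, mul_inv_cancel_left]
    have hju : pol8 m (φ j) (plv t) = false := by
      rw [← hwφ]
      refine (comm_iff hc hjJ hwJ).1 ?_
      exact (((Commute.refl g).mul_right (Commute.refl g)).inv_left).mul_left
        (hcomm _ hwJ (Or.inr (Or.inr hwφ)))
    obtain ⟨r, hr', hr3⟩ := hc.φ_surj 3
    have hj3 : pol8 m (φ j) 3 = true := by
      by_contra h
      rw [Bool.not_eq_true] at h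
      have h1 : y * r * y⁻¹ = r := mul_inv_eq_iff_eq_mul.2 (hcomm r hr' (Or.inr (Or.inl hr3))).eq
      rw [hyj, show g * j * r * (g * j)⁻¹ = g * (j * r * j⁻¹) * g⁻¹ by group,
        conj_pol hc hjJ hr', hr3, h, if_neg Bool.false_ne_true, mul_one, E.flip r hr' hr3] at h1
      exact hc.ne_one (mul_eq_left.1 h1)
    have hm := hc.conj_mem g E.mem j hjJ
    have h2 : φ (y * y) = vadd (plv t) 3 := by
      rw [hyj, show g * j * (g * j) = g * j * g⁻¹ * (g * g * j) by group,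
        hc.φ_mul _ hm _ (J.mul_mem hwJ hjJ), hc.φ_mul _ hwJ _ hjJ, hwφ, φ_conj hc E.mem hjJ,
        E.rho, ← H50.U6C.vadd_assoc, H50.U6C.vadd_comm _ (plv t), H50.U6C.vadd_assoc,
        plane_orth m t hc.plane ht _ hju, hj3, if_pos rfl]
    rw [hyy, H64.U6E.φ_one hc, H50.U6C.vadd_comm] at h2
    exact (plv_self m t).2.2 h2.symm
  have hyJ : y ∈ J := hrigid y hyH hyfix
  have hperp : ∀ v : V, InE v ∨ v = 3 ∨ v = plv t → pol8 m (φ y) v = false := fun v hv => by
    obtain ⟨j, hj, rfl⟩ := hc.φ_surj v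
    exact (comm_iff hc hyJ hj).1 (hcomm j hj hv)
  rcases perp_both m t hc.plane ht (φ y) (by
      simp only [List.forall_mem_cons, List.not_mem_nil, IsEmpty.forall_iff, implies_true, and_true]
      refine ⟨?_, ?_, ?_, ?_, ?_, ?_⟩ <;> apply hperp
      · exact Or.inr (Or.inl rfl)
      · exact Or.inl (by decide)
      · exact Or.inl (by decide)
      · exact Or.inl (by decide)
      · exact Or.inl (by decide)
      · exact Or.inr (Or.inr rfl))
    (q_false hc hyJ hyy) with h0 | h0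
  · rcases (hc.φ_ker y hyJ).1 h0 with h1 | h1
    · exact pnt_ne_one hc.ne_one c h1
    · refine hgc ((smul_eq_iff g c).2 ?_)
      rw [← hy, h1]
      exact H64.U6E.z_comm hc E.mem
  -- the remaining image
  have hyc : y • c = c := (smul_eq_iff y c).2 (Commute.refl _)
  have hyo : ¬ Out H₀ c y := not_out_self (hc.J_le hc.z_mem) c
  have hflip : ∃ v, pol8 m v (φ y) = true := by rw [h0]; exact exists_flip m t
  have hjc : ∀ j ∈ J, InE (φ j) ∨ φ j = 3 → j • c = c := fun j hj h =>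
    (smul_eq_iff j c).2 (hcomm j hj (h.imp id Or.inl)).symm
  have hEo : ∀ j ∈ J, InE (φ j) → ¬ Out H₀ c j := by
    intro j hj hjE
    obtain ⟨x, hxC, hxy, hρ⟩ := exists_comm hc hyJ gam_mem
      (by rw [h0]; exact gam_fix t) hflip
    have hxc : x • c = c := (smul_eq_iff x c).2 hxy
    obtain ⟨v, hvE, hv⟩ := gam_onto _ hjE
    obtain ⟨b, hb, rfl⟩ := hc.φ_surj v
    have hbc := hjc b hb (Or.inl hvE)
    have hmc : (x * b * x⁻¹) • c = c := by
      rw [mul_smul, mul_smul, inv_smul_eq_iff.2 hxc.symm, hbc, hxc]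
    have hm := hc.conj_mem x hxC b hb
    rw [out_congr hc hzc hzo (J.mul_mem hm hb) hj (by rw [mul_smul, hbc, hmc])
      (by rw [hc.φ_mul _ hm _ hb, φ_conj hc hxC hb, hρ, hv]), out_mul_iff hidx hmc hbc,
      out_conj hidx hc.le_cent hxc b]
    exact not_not_intro Iff.rfl
  obtain ⟨r, hr', hr3⟩ := hc.φ_surj 3
  have hrc := hjc r hr' (Or.inr hr3)
  have hro : ¬ Out H₀ c r := by
    obtain ⟨x, hxC, hxy, hρ⟩ := exists_comm hc hyJ mov_mem
      (by rw [h0]; exact (mov_vals t).1) hflip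
    have hxc : x • c = c := (smul_eq_iff x c).2 hxy
    obtain ⟨b, hb, hb'⟩ := hc.φ_surj 8
    obtain ⟨a, ha, ha'⟩ := hc.φ_surj 12
    have hac := hjc a ha (Or.inl (ha' ▸ hE12))
    have hm := hc.conj_mem x hxC b hb
    have h1 := out_congr hc hzc hzo (J.mul_mem hr' ha) hm (by rw [mul_smul, hac, hrc])
      (by rw [hc.φ_mul _ hr' _ ha, φ_conj hc hxC hb, hρ, hb', hr3, ha', (mov_vals t).2])
    rw [out_conj hidx hc.le_cent hxc b, out_mul_iff hidx hrc hac] at h1
    have hbo := hEo b hb (hb' ▸ hE8)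
    have hao := hEo a ha (ha' ▸ hE12)
    tauto
  have hwr := out_congr hc hzc hzo (J.mul_mem hr' hyJ) hwJ (by rw [mul_smul, hyc, hrc])
    (by rw [hc.φ_mul _ hr' _ hyJ, hr3, h0, ← H50.U6C.vadd_assoc, vadd_self, zero_vadd', hwφ])
  rw [out_mul_iff hidx hrc hyc] at hwr
  tauto

/-- The cosets in pairs at which the square is outside come by fours. -/
theorem four_dvd (hc : FixCtx z J H₀ m t φ ρ) (hr : refl8 3 ∉ oGroup) (E : Elt z J H₀ m t φ ρ g)
    (ht : t ≠ 0) : 4 ∣ Nat.card {c : G ⧸ Subgroup.centralizer ({z} : Set G) //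
      g • c ≠ c ∧ g ^ 2 • c = c ∧ Out H₀ c (g ^ 2)} := by
  have hidx := relIndex_two hc
  rw [pow_two]
  have hgw : Commute g (g * g) := (Commute.refl g).mul_right (Commute.refl g)
  have hg : g ∈ fixGrp t ρ (g * g) :=
    mem_fixGrp E.mem (E.rho ▸ Subgroup.mem_zpowers _) hgw
  refine dvd_card (fixGrp t ρ (g * g)) _ 4 (fun q hq c h => ?_) fun c h => ?_
  · have hcm : Commute q (g * g) := Subgroup.mem_centralizer_singleton_iff.1 hq.2
    have h1 : (g * g) • q • c = q • c := by rw [← mul_smul, ← hcm.eq, mul_smul, h.2.1]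
    have h2 : Out H₀ (q • c) (g * g) := (out_smul_comm hidx hc.le_cent hcm c).2 h.2.2
    exact ⟨fun hf => sq_not_out hidx hf h2, h1, h2⟩
  · obtain ⟨n, hn⟩ := (fixGrp_two hc (g * g)).card_orbit c
    set s : Set (G ⧸ Subgroup.centralizer ({z} : Set G)) := {c, g • c} with hs
    have hsub : s ⊆ orbit (fixGrp t ρ (g * g)) c := by
      rw [hs, Set.insert_subset_iff, Set.singleton_subset_iff]
      exact ⟨mem_orbit_self c, ⟨⟨g, hg⟩, rfl⟩⟩
    have hs2 : s.ncard = 2 := Set.ncard_pair h.1.symm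
    rcases le_or_gt 2 n with hn2 | hn2
    · rw [hn]
      exact pow_dvd_pow 2 hn2
    · exfalso
      have hle : (orbit (fixGrp t ρ (g * g)) c).ncard ≤ s.ncard := by
        rw [hs2, ← Nat.card_coe_set_eq, hn]
        calc 2 ^ n ≤ 2 ^ 1 := Nat.pow_le_pow_right two_pos (by omega)
          _ = 2 := pow_one 2
      have heq := Set.eq_of_subset_of_ncard_le hsub hle
      refine no_pair hc hr E ht h.1 h.2.1 h.2.2 fun a ha => ?_
      have hmem : a • c ∈ s := heq ▸ ⟨⟨a, ha⟩, rfl⟩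
      simpa [hs] using hmem

end H35.U6E
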