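import Cfsg.Agent.H35.U6E.Tables
import Cfsg.Agent.H50.U6C.Model

/-!
The coordinates of the inner subgroup extend to the whole involution centraliser; an element
outside acts as a reflection on the six-dimensional part.
-/

set_option autoImplicit false
set_option maxRecDepth 100000

namespace H35.U6E

open H38.U6C
open H50.U6C (vadd_comm vadd_assoc vadd_self vadd_zero' vadd_vadd_vadd)

theorem zero_vadd' (a : V) : vadd 0 a = a := (vadd_comm 0 a).trans (vadd_zero' a)

theorem eq_of_vadd_zero {a b : V} (h : vadd a b = 0) : a = b := by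
  have := congrArg (vadd a) h
  rw [← vadd_assoc, vadd_self, zero_vadd', vadd_zero'] at this
  exact this.symm

/-- An additive isometry. -/
structure IsIso (m : Bool) (f : Equiv.Perm V) : Prop where
  add : ∀ a b, f (vadd a b) = vadd (f a) (f b)
  q : ∀ a, q8 m (f a) = q8 m a

namespace IsIso

variable {m : Bool} {f g : Equiv.Perm V}

theorem zero (hf : IsIso m f) : f 0 = 0 := by
  have := hf.add 0 0
  rw [vadd_self] at this
  rw [this, vadd_self]

theorem pol (hf : IsIso m f) (a b : V) : pol8 m (f a) (f b) = pol8 m a b := by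
  rw [pol8_def, pol8_def, ← hf.add, hf.q, hf.q, hf.q]

theorem mul (hf : IsIso m f) (hg : IsIso m g) : IsIso m (f * g) :=
  ⟨fun a b => by simp only [Equiv.Perm.mul_apply, hg.add, hf.add],
    fun a => by simp only [Equiv.Perm.mul_apply, hf.q, hg.q]⟩

end IsIso

/-- In the inner group or in its translate by the reflection in `3`. -/
def Good (x : Equiv.Perm V) : Prop := x ∈ oGroup ∨ refl8 3 * x ∈ oGroup

theorem refl_sq (a : V) : refl8 a * refl8 a = 1 := Equiv.ext fun v => refFun_invol a v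

theorem refl_one {a : V} (h : ¬ IsRefVec a) : refl8 a = 1 := Equiv.ext fun v => by
  show refFun a v = v
  rw [refFun, if_neg (fun h' => h h'.1)]

theorem pair_mem {a b : V} (ha : IsRefVec a) (hb : IsRefVec b) : refl8 a * refl8 b ∈ oGroup :=
  Subgroup.subset_closure ⟨a, b, ha, hb, rfl⟩

theorem good_refl_mul {x : Equiv.Perm V} (hx : Good x) (a : V) : Good (refl8 a * x) := by
  by_cases ha : IsRefVec a
  · rcases hx with h | h
    · refine Or.inr ?_
      rw [← mul_assoc]
      exact oGroup.mul_mem (pair_mem refl_vecs.1 ha) h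
    · refine Or.inl ?_
      have := oGroup.mul_mem (pair_mem ha refl_vecs.1) h
      rwa [mul_assoc, ← mul_assoc (refl8 3), refl_sq, one_mul] at this
  · rwa [refl_one ha, one_mul]

theorem oGroup_high {x : Equiv.Perm V} (hx : x ∈ oGroup) : ∀ v : V,
    (x v).val / 64 = v.val / 64 ∧ ∀ k, x (planeV k) = planeV k := by
  induction hx using Subgroup.closure_induction with
  | mem y hy =>
    obtain ⟨a, b, -, -, rfl⟩ := hy
    intro v
    refine ⟨?_, fun k => ?_⟩
    · rw [Equiv.Perm.mul_apply, refl_high, refl_high]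
    · rw [Equiv.Perm.mul_apply, refl_plane, refl_plane]
  | one => exact fun v => ⟨rfl, fun k => rfl⟩
  | mul y y' _ _ hy hy' =>
    intro v
    refine ⟨?_, fun k => ?_⟩
    · rw [Equiv.Perm.mul_apply, (hy _).1, (hy' v).1]
    · rw [Equiv.Perm.mul_apply, (hy' v).2 k, (hy v).2 k]
  | inv y _ hy =>
    intro v
    refine ⟨?_, fun k => ?_⟩
    · have := (hy (y⁻¹ v)).1
      rw [← Equiv.Perm.mul_apply, mul_inv_cancel, Equiv.Perm.one_apply] at this
      exact this.symm
    · conv_lhs => rw [← (hy v).2 k]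
      rw [← Equiv.Perm.mul_apply, inv_mul_cancel, Equiv.Perm.one_apply]

theorem oGroup_low {x : Equiv.Perm V} (hx : x ∈ oGroup) {v : V} (hv : v.val < 64) :
    (x v).val < 64 := by
  have := (oGroup_high hx v).1
  omega

theorem refl_low (a : V) {v : V} (hv : v.val < 64) : (refl8 a v).val < 64 := by
  have := refl_high a v
  omega

theorem good_low {x : Equiv.Perm V} (hx : Good x) {v : V} (hv : v.val < 64) :
    (x v).val < 64 := by
  rcases hx with h | h
  · exact oGroup_low h hv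
  · have h1 := oGroup_high h v
    have h2 := refl_high 3 (x v)
    rw [Equiv.Perm.mul_apply] at h1
    have := h1.1
    omega

theorem pol_low_plane : ∀ m : Bool, ∀ k : Fin 4, ∀ v : V, v.val < 64 →
    pol8 m v (planeV k) = false := by decide +kernel

theorem unitL_low : ∀ i : Fin 6, (unitL i).val < 64 ∧ unitL i ≠ 0 := by decide +kernel

/-- An additive map is determined by the unit vectors. -/
theorem ext_low {f g : Equiv.Perm V} (hf : ∀ a b, f (vadd a b) = vadd (f a) (f b))
    (hg : ∀ a b, g (vadd a b) = vadd (g a) (g b)) (h : ∀ i : Fin 6, f (unitL i) = g (unitL i))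
    {v : V} (hv : v.val < 64) : f v = g v := by
  have h0 : ∀ k : Equiv.Perm V, (∀ a b, k (vadd a b) = vadd (k a) (k b)) → k 0 = 0 := by
    intro k hk
    have := hk 0 0
    rw [vadd_self] at this
    rw [this, vadd_self]
  have hp : ∀ i : Fin 8, i.val < 6 → f (pick v i) = g (pick v i) := by
    intro i hi
    rw [pick]
    split
    · exact h ⟨i.val, hi⟩
    · rw [h0 f hf, h0 g hg]
  rw [decomp v, (high_pick v hv).1, (high_pick v hv).2]
  simp only [hf, hg, h0 f hf, h0 g hg, hp 0 (by decide), hp 1 (by decide), hp 2 (by decide),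
    hp 3 (by decide), hp 4 (by decide), hp 5 (by decide)]

/-- A low isometry agrees on the low part with one of the group generated by the reflections. -/
theorem exists_good {m : Bool} (hgood : ∀ x, Good x → IsIso m x) {f : Equiv.Perm V}
    (hf : IsIso m f) (hlow : ∀ v : V, v.val < 64 → (f v).val < 64) :
    ∃ w, Good w ∧ ∀ v : V, v.val < 64 → w (f v) = v := by
  have key : ∀ n ≤ 6, ∃ w, Good w ∧ ∀ j : Fin 6, j.val < n → w (f (unitL j)) = unitL j := by
    intro n hn
    induction n with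
    | zero => exact ⟨1, Or.inl oGroup.one_mem, fun j hj => absurd hj (Nat.not_lt_zero _)⟩
    | succ n ih =>
      obtain ⟨w, hw, hfix⟩ := ih (by omega)
      set i : Fin 6 := ⟨n, hn⟩ with hi
      have hwi := hgood w hw
      set v := w (f (unitL i)) with hv
      have hv64 : v.val < 64 := good_low hw (hlow _ (unitL_low i).1)
      have hv0 : v ≠ 0 := by
        intro e
        apply (unitL_low i).2
        apply f.injective
        apply w.injective
        rw [hf.zero, hwi.zero]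
        exact e
      have hpol : ∀ j : Fin 6, j < i → pol8 m v (unitL j) = pol8 m (unitL i) (unitL j) := by
        intro j hj
        conv_lhs => rw [← hfix j hj, hv]
        rw [hwi.pol, hf.pol]
      obtain ⟨c1, c2⟩ := move_cert m i v hv64 hv0 (by rw [hv, hwi.q, hf.q]) hpol
      refine ⟨refl8 (moveA i v) * (refl8 (moveB i v) * w),
        good_refl_mul (good_refl_mul hw _) _, fun j hj => ?_⟩
      show refl8 _ (refl8 _ (w (f (unitL j)))) = _
      rcases Nat.lt_succ_iff_lt_or_eq.mp hj with h | h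
      · rw [hfix j h]
        exact c2 j h
      · obtain rfl : j = i := Fin.ext h
        exact c1
  obtain ⟨w, hw, hfix⟩ := key 6 le_rfl
  refine ⟨w, hw, fun v hv => ?_⟩
  exact ext_low (f := w * f) (g := 1) (((hgood w hw).mul hf).add) (fun a b => rfl)
    (fun j => hfix j j.2) hv

theorem eq_outP {f : Equiv.Perm V} {t : Fin 4} (hadd : ∀ a b, f (vadd a b) = vadd (f a) (f b))
    (hlow : ∀ v : V, v.val < 64 → f v = refl8 3 v)
    (hhigh : ∀ k : Fin 4, f (planeV k) = tauP t (planeV k)) : f = outP t := by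
  refine Equiv.ext fun v => ?_
  obtain ⟨h1, h2, k, h3⟩ := lowhigh v
  rw [outP_split t v]
  conv_lhs => rw [h1]
  rw [hadd, hlow _ h2, h3, hhigh]

theorem tau_zero : ∀ t : Fin 4, tauP t 0 = 0 := by decide +kernel

universe u

theorem ext : ExtStmt.{u} := by
  intro G _ _ z J H₀ hz h1 hH hJ hzJ hcJ hconj hnorm hself hinner hcC hcH m φ₀ ρ₀ hF
  classical
  set C := Subgroup.centralizer ({z} : Set G) with hC
  have hcomm : ∀ g ∈ C, g * z * g⁻¹ = z := fun g hg => by
    rw [Subgroup.mem_centralizer_singleton_iff.mp hg, mul_inv_cancel_right]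
  set φ : G → V := fun j => if h : j ∈ H₀ then φ₀ ⟨j, h⟩ else 0 with hφ
  have φd : ∀ (j : G) (h : j ∈ H₀), φ j = φ₀ ⟨j, h⟩ := fun j h => dif_pos h
  have mJ : ∀ (j : G) (h : j ∈ J), (⟨j, hJ h⟩ : ↥H₀) ∈ J.subgroupOf H₀ := fun j h =>
    Subgroup.mem_subgroupOf.mpr h
  have φ_mul : ∀ a ∈ J, ∀ b ∈ J, φ (a * b) = vadd (φ a) (φ b) := fun a ha b hb => by
    rw [φd a (hJ ha), φd b (hJ hb), φd _ (hJ (J.mul_mem ha hb))]
    exact hF.φ_mul _ (mJ a ha) _ (mJ b hb)
  have φ_surj : ∀ v, ∃ a ∈ J, φ a = v := fun v => by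
    obtain ⟨a, ha, e⟩ := hF.φ_surj v
    exact ⟨a.1, Subgroup.mem_subgroupOf.mp ha, (φd _ a.2).trans e⟩
  have φ_ker : ∀ a ∈ J, (φ a = 0 ↔ a = 1 ∨ a = z) := fun a ha => by
    rw [φd a (hJ ha), hF.φ_ker _ (mJ a ha)]
    simp only [Subtype.ext_iff, OneMemClass.coe_one]
  have φ_sq : ∀ a ∈ J, a * a = if q8 m (φ a) then z else 1 := fun a ha => by
    have := congrArg Subtype.val (hF.φ_sq _ (mJ a ha))
    rw [φd a (hJ ha)]
    rw [apply_ite Subtype.val] at this
    exact this
  have φ_comm : ∀ a ∈ J, ∀ b ∈ J,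
      a * b = b * a * if pol8 m (φ a) (φ b) then z else 1 := fun a ha b hb => by
    have := congrArg Subtype.val (hF.φ_comm _ (mJ a ha) _ (mJ b hb))
    rw [φd a (hJ ha), φd b (hJ hb)]
    rw [Subgroup.coe_mul, Subgroup.coe_mul, Subgroup.coe_mul, apply_ite Subtype.val] at this
    exact this
  have φ_one : φ 1 = 0 := (φ_ker 1 J.one_mem).mpr (Or.inl rfl)
  have φ_z : φ z = 0 := (φ_ker z hzJ).mpr (Or.inr rfl)
  have φ_inv : ∀ b ∈ J, φ b⁻¹ = φ b := fun b hb => by
    have := φ_mul b hb b⁻¹ (J.inv_mem hb)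
    rw [mul_inv_cancel, φ_one] at this
    exact (eq_of_vadd_zero this.symm).symm
  have φ_conj : ∀ g ∈ C, ∀ a ∈ J, ∀ b ∈ J, φ a = φ b → φ (g * a * g⁻¹) = φ (g * b * g⁻¹) := by
    intro g hg a ha b hb e
    have h0 : φ (a * b⁻¹) = 0 := by
      rw [φ_mul a ha _ (J.inv_mem hb), φ_inv b hb, e, vadd_self]
    rcases (φ_ker _ (J.mul_mem ha (J.inv_mem hb))).mp h0 with h | h
    · rw [mul_inv_eq_one.mp h]
    · rw [mul_inv_eq_iff_eq_mul.mp h,
        show g * (z * b) * g⁻¹ = g * z * g⁻¹ * (g * b * g⁻¹) by group, hcomm g hg,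
        φ_mul z hzJ _ (hconj g hg b hb), φ_z, zero_vadd']
  choose s hs hs' using φ_surj
  have key : ∀ g ∈ C, ∀ j ∈ J, φ (g * s (φ j) * g⁻¹) = φ (g * j * g⁻¹) := fun g hg j hj =>
    φ_conj g hg _ (hs _) _ hj (hs' _)
  let act : ↥C → Equiv.Perm V := fun g =>
    { toFun := fun v => φ (g.1 * s v * g.1⁻¹)
      invFun := fun v => φ (g.1⁻¹ * s v * g.1)
      left_inv := fun v => by
        have := key _ (C.inv_mem g.2) _ (hconj _ g.2 _ (hs v))
        rw [inv_inv] at this
        refine this.trans ?_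
        rw [show g.1⁻¹ * (g.1 * s v * g.1⁻¹) * g.1 = s v by group, hs']
      right_inv := fun v => by
        have hm := hconj _ (C.inv_mem g.2) _ (hs v)
        rw [inv_inv] at hm
        refine (key _ g.2 _ hm).trans ?_
        rw [show g.1 * (g.1⁻¹ * s v * g.1) * g.1⁻¹ = s v by group, hs'] }
  let ρ : ↥C →* Equiv.Perm V := MonoidHom.mk' act fun g h => Equiv.ext fun v => by
    show φ ((g * h).1 * s v * (g * h).1⁻¹) = φ (g.1 * s (φ (h.1 * s v * h.1⁻¹)) * g.1⁻¹)
    rw [key _ g.2 _ (hconj _ h.2 _ (hs v)), Subgroup.coe_mul]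
    congr 1
    group
  have ρ_φ : ∀ (g : ↥C) (j : G), j ∈ J → φ ((g : G) * j * (g : G)⁻¹) = ρ g (φ j) :=
    fun g j hj => (key _ g.2 _ hj).symm
  -- agreement on the inner subgroup
  let cz : ↥H₀ → ↥(Subgroup.centralizer ({(⟨z, hJ hzJ⟩ : ↥H₀)} : Set ↥H₀)) := fun h =>
    ⟨h, Subgroup.mem_centralizer_singleton_iff.mpr
      (Subtype.ext (Subgroup.mem_centralizer_singleton_iff.mp (hH h.2)))⟩
  have agree : ∀ h : ↥H₀, ρ ⟨h.1, hH h.2⟩ = ρ₀ (cz h) := fun h => Equiv.ext fun v => by
    have e := hF.ρ_φ (cz h) _ (mJ _ (hs v))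
    rw [← φd _ (hJ (hs v)), hs'] at e
    rw [← e]
    exact φd _ _
  have inner_ker : ∀ g : ↥C, (g : G) ∈ H₀ → (ρ g = 1 ↔ (g : G) ∈ J) := fun g hg => by
    rw [show g = ⟨g.1, hH hg⟩ from rfl, agree ⟨g.1, hg⟩, hF.ρ_ker]
    exact Subgroup.mem_subgroupOf
  have hrange : (H₀.subgroupOf C).map ρ = oGroup := by
    rw [← hF.ρ_range]
    ext x
    constructor
    · rintro ⟨g, hg, rfl⟩
      exact ⟨cz ⟨g.1, hg⟩, (agree ⟨g.1, hg⟩).symm⟩
    · rintro ⟨h, rfl⟩
      exact ⟨⟨h.1.1, hH h.1.2⟩, h.1.2, agree h.1⟩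
  have lift : ∀ x ∈ oGroup, ∃ h : ↥C, (h : G) ∈ H₀ ∧ ρ h = x := fun x hx => by
    rw [← hrange] at hx
    exact hx
  have memo : ∀ g : ↥C, (g : G) ∈ H₀ → ρ g ∈ oGroup := fun g hg => hrange ▸ ⟨g, hg, rfl⟩
  have hiso : ∀ g : ↥C, IsIso m (ρ g) := fun g => by
    refine ⟨fun a b => ?_, fun a => ?_⟩
    · conv_lhs => rw [← hs' a, ← hs' b, ← φ_mul _ (hs a) _ (hs b),
        ← ρ_φ g _ (J.mul_mem (hs a) (hs b))]
      conv_rhs => rw [← hs' a, ← hs' b, ← ρ_φ g _ (hs a), ← ρ_φ g _ (hs b),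
        ← φ_mul _ (hconj _ g.2 _ (hs a)) _ (hconj _ g.2 _ (hs b))]
      congr 1
      group
    · have e1 := φ_sq _ (hconj _ g.2 _ (hs a))
      rw [conj_mul, φ_sq _ (hs a), ρ_φ g _ (hs a), hs'] at e1
      cases ha : q8 m a <;> cases hb : q8 m (ρ g a) <;> simp only [ha, hb, if_true, if_false,
        Bool.false_eq_true, hcomm _ g.2, mul_one, mul_inv_cancel] at e1 ⊢
      · exact absurd e1.symm h1
      · exact absurd e1 h1
  have hgood : ∀ x, Good x → IsIso m x := by
    have hsub : ∀ x ∈ oGroup, IsIso m x := fun x hx => by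
      obtain ⟨h, -, rfl⟩ := lift x hx
      exact hiso h
    rintro x (hx | hx)
    · exact hsub x hx
    · have := IsIso.mul (m := m) (f := refl8 3) ⟨refl_three_add, refl_three_q m⟩ (hsub _ hx)
      rwa [← mul_assoc, refl_sq, one_mul] at this
  have hconjH : ∀ g h : ↥C, (h : G) ∈ H₀ → ((g * h * g⁻¹ : ↥C) : G) ∈ H₀ := fun g h hh =>
    hnorm _ g.2 _ hh
  -- the plane and the low part
  have hplane : ∀ (g : ↥C) (k : Fin 4), ∃ l, ρ g (planeV k) = planeV l := by
    intro g k
    refine plane_of_mod _ ?_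
    have hfix : ∀ a, IsRefVec a → refl8 3 (refl8 a (ρ g (planeV k))) = ρ g (planeV k) := by
      intro a ha
      obtain ⟨h, hh, e⟩ := lift _ (pair_mem refl_vecs.1 ha)
      have e2 := (oGroup_high (memo _ (hconjH g⁻¹ h hh)) 0).2 k
      rw [← Equiv.Perm.mul_apply (refl8 3), ← e]
      conv_rhs => rw [← e2]
      rw [← Equiv.Perm.mul_apply, ← Equiv.Perm.mul_apply, ← map_mul, ← map_mul]
      congr 2
      group
    obtain ⟨-, a1, a2, a3, a4, a5, a6⟩ := refl_vecs
    exact fix_plane _ (hfix _ a1) (hfix _ a2) (hfix _ a3) (hfix _ a4) (hfix _ a5) (hfix _ a6)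
  have hlow : ∀ (g : ↥C) (v : V), v.val < 64 → (ρ g v).val < 64 := by
    intro g v hv
    have hp : ∀ k, pol8 m (ρ g v) (planeV k) = false := fun k => by
      obtain ⟨l, hl⟩ := hplane g⁻¹ k
      have : ρ g (planeV l) = planeV k := by
        rw [← hl, ← Equiv.Perm.mul_apply, ← map_mul, mul_inv_cancel, map_one]; rfl
      rw [← this, (hiso g).pol]
      exact pol_low_plane m l v hv
    exact (low_iff m _).mpr ⟨hp 1, hp 2⟩
  -- an element centralising the inner part modulo the core is inner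
  have hin : ∀ g : ↥C, (∀ v : V, v.val < 64 → ρ g v = v) → (g : G) ∈ H₀ := by
    intro g hfix
    refine hinner g g.2 fun h hh => ?_
    set h' : ↥C := ⟨h, hH hh⟩
    have hcm : ρ g * ρ h' = ρ h' * ρ g := Equiv.ext fun v => by
      obtain ⟨e, hl, k, hk⟩ := lowhigh v
      obtain ⟨l, hl'⟩ := hplane g k
      have ho := memo h' hh
      rw [e, Equiv.Perm.mul_apply, Equiv.Perm.mul_apply, (hiso h').add, (hiso g).add, hk,
        (oGroup_high ho 0).2 k, (hiso g).add, hl', hfix _ (oGroup_low ho hl), hfix _ hl,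
        (hiso h').add, (oGroup_high ho 0).2 l]
    have h3 : ρ (g * h' * g⁻¹ * h'⁻¹) = 1 := by
      rw [map_mul, map_mul, map_mul, map_inv, map_inv, hcm]
      group
    exact (inner_ker _ (H₀.mul_mem (hnorm _ g.2 _ hh) (H₀.inv_mem hh))).mp h3
  have ρ_ker : ∀ g : ↥C, ρ g = 1 ↔ (g : G) ∈ J := fun g =>
    ⟨fun e => (inner_ker g (hin g fun v _ => by rw [e]; rfl)).mp e,
      fun hg => (inner_ker g (hJ hg)).mpr hg⟩
  have hindex : (H₀.subgroupOf C).index = 2 := by
    have := Subgroup.card_mul_index (H₀.subgroupOf C)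
    rw [Nat.card_congr (Subgroup.subgroupOfEquivOfLe hH).toEquiv, hcH, hcC] at this
    omega
  -- an outer element
  obtain ⟨g, hg⟩ : ∃ g : ↥C, (g : G) ∉ H₀ := by
    by_contra hall
    push_neg at hall
    have : H₀.subgroupOf C = ⊤ := eq_top_iff.mpr fun g _ => hall g
    rw [this, Subgroup.index_top] at hindex
    omega
  obtain ⟨w, hw, hwfix⟩ := exists_good hgood (hiso g) (hlow g)
  obtain ⟨h, hh, hhv⟩ : ∃ h : ↥C, (h : G) ∈ H₀ ∧ ∀ v : V, v.val < 64 → ρ (h * g) v = refl8 3 v := by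
    rcases hw with hw | hw
    · obtain ⟨h, hh, e⟩ := lift w hw
      exfalso
      refine hg ?_
      have := hin (h * g) fun v hv => by rw [map_mul, e]; exact hwfix v hv
      exact (Subgroup.mul_mem_cancel_left H₀ hh).mp this
    · obtain ⟨h, hh, e⟩ := lift _ hw
      refine ⟨h, hh, fun v hv => ?_⟩
      rw [map_mul, e]
      exact congrArg (refl8 3) (hwfix v hv)
  set g' := h * g with hg'
  have hg'n : (g' : G) ∉ H₀ := fun h2 => hg ((Subgroup.mul_mem_cancel_left H₀ hh).mp h2)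
  have hsq : ∀ k, ρ g' (ρ g' (planeV k)) = planeV k := fun k => by
    rw [← Equiv.Perm.mul_apply, ← map_mul]
    exact (oGroup_high (memo _ (Subgroup.mem_subgroupOf.mp
      (Subgroup.mul_self_mem_of_index_two hindex g'))) 0).2 k
  obtain ⟨x, hx⟩ := hplane g' 1
  obtain ⟨y, hy⟩ := hplane g' 2
  obtain ⟨w', hw'⟩ := hplane g' 3
  have h0 : ρ g' (planeV 0) = planeV 0 := (hiso g').zero
  have hne : ∀ k l a, ρ g' (planeV k) = planeV a → ρ g' (planeV l) = planeV a → k = l := by
    intro k l a e1 e2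
    have := (ρ g').injective (e1.trans e2.symm)
    have inj : ∀ k l : Fin 4, planeV k = planeV l → k = l := by decide
    exact inj _ _ this
  have hsum : vadd (planeV x) (planeV y) = planeV w' := by
    rw [← hx, ← hy, ← hw', ← (hiso g').add]
    congr 1
  have hval : ∀ k a, ρ g' (planeV k) = planeV a → (![0, x, y, w'] : Fin 4 → Fin 4) a = k := by
    intro k a e
    have h2 := hsq k
    rw [e] at h2
    have inj : ∀ k l : Fin 4, planeV k = planeV l → k = l := by decide
    fin_cases a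
    · exact inj _ _ (h0.symm.trans h2)
    · exact inj _ _ (hx.symm.trans h2)
    · exact inj _ _ (hy.symm.trans h2)
    · exact inj _ _ (hw'.symm.trans h2)
  obtain ⟨t, ht, t1, t2, t3⟩ := plane_cases m x y w'
    (fun e => by subst e; exact absurd (hne 1 0 0 hx h0) (by decide))
    (fun e => by subst e; exact absurd (hne 2 0 0 hy h0) (by decide))
    (fun e => by subst e; exact absurd (hne 3 0 0 hw' h0) (by decide))
    (fun e => by subst e; exact absurd (hne 1 2 _ hx hy) (by decide)) hsum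
    (by rw [← hx]; exact (hiso g').q _) (by rw [← hy]; exact (hiso g').q _)
    (by rw [← hw']; exact (hiso g').q _) (hval 1 x hx) (hval 2 y hy)
  refine ⟨t, φ, ρ, hz, h1, hH, hJ, hzJ, hcJ, hconj, φ_mul, fun v => ⟨s v, hs v, hs' v⟩, φ_ker,
    φ_sq, φ_comm, ρ_φ, ρ_ker, hcC, hcH, hrange, ht, g', hg'n,
    eq_outP (hiso g').add hhv fun k => ?_⟩
  fin_cases k
  · exact h0.trans (tau_zero t).symm
  · exact hx.trans t1.symm
  · exact hy.trans t2.symm
  · exact hw'.trans t3.symm

end H35.U6E
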