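import Cfsg.Agent.H38.U6C.Fix8

/-!
The involution centraliser of shape `2^(1+8).U₄(2).2` in the case with a fixed plane: coordinates
on the whole centraliser, and the interface for the existence of a centralised pair over a
reflection and an element of order five.
-/

set_option autoImplicit false
set_option maxRecDepth 100000

namespace H35.U6E

open H38.U6C

/-- The three non-zero vectors of the plane. -/
def plv : Fin 4 → V := ![0, 192, 64, 128]

/-- `tauP 0` is the identity; otherwise the involution of the plane fixing `plv t`. -/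
def tauFun (t : Fin 4) (v : V) : V :=
  ⟨(v.val % 64 + 64 *
    (![![0, 1, 2, 3], ![0, 2, 1, 3], ![0, 1, 3, 2], ![0, 3, 2, 1]] t
      (⟨v.val / 64 % 4, Nat.mod_lt _ (by norm_num)⟩ : Fin 4) : ℕ)) % 256, Nat.mod_lt _ (by norm_num)⟩

theorem tauFun_invol : ∀ t v, tauFun t (tauFun t v) = v := by decide +kernel

/-- The action on the plane of an element outside the inner subgroup. -/
def tauP (t : Fin 4) : Equiv.Perm V :=
  ⟨tauFun t, tauFun t, tauFun_invol t, tauFun_invol t⟩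

/-- An element of order five, free on the elliptic part orthogonal to the bits `0, 1`. -/
def gam8 : Equiv.Perm V := refl8 12 * refl8 16 * refl8 20 * refl8 32

/-- The image of an outer element: the reflection in `3` with an action on the plane. -/
def outP (t : Fin 4) : Equiv.Perm V := refl8 3 * tauP t

variable {G : Type*} [Group G]

/-- The involution centraliser read on the module with a fixed plane, with its index-two subgroup
`H₀`: `t` records the action on the plane of the elements outside `H₀`. -/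
structure FixCtx (z : G) (J H₀ : Subgroup G) (m : Bool) (t : Fin 4) (φ : G → V)
    (ρ : ↥(Subgroup.centralizer ({z} : Set G)) →* Equiv.Perm V) : Prop where
  sq : z * z = 1
  ne_one : z ≠ 1
  le_cent : H₀ ≤ Subgroup.centralizer ({z} : Set G)
  J_le : J ≤ H₀
  z_mem : z ∈ J
  card_J : Nat.card J = 2 ^ 9
  conj_mem : ∀ g ∈ Subgroup.centralizer ({z} : Set G), ∀ j ∈ J, g * j * g⁻¹ ∈ J
  φ_mul : ∀ a ∈ J, ∀ b ∈ J, φ (a * b) = vadd (φ a) (φ b)
  φ_surj : ∀ v, ∃ a ∈ J, φ a = v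
  φ_ker : ∀ a ∈ J, (φ a = 0 ↔ a = 1 ∨ a = z)
  φ_sq : ∀ a ∈ J, a * a = if q8 m (φ a) then z else 1
  φ_comm : ∀ a ∈ J, ∀ b ∈ J, a * b = b * a * if pol8 m (φ a) (φ b) then z else 1
  ρ_φ : ∀ (g : ↥(Subgroup.centralizer ({z} : Set G))) (j : G), j ∈ J →
    φ ((g : G) * j * (g : G)⁻¹) = ρ g (φ j)
  ρ_ker : ∀ g : ↥(Subgroup.centralizer ({z} : Set G)), ρ g = 1 ↔ (g : G) ∈ J
  card_cent : Nat.card (Subgroup.centralizer ({z} : Set G)) = 2 ^ 10 * 25920
  card_H₀ : Nat.card H₀ = 2 ^ 9 * 25920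
  range₀ : (H₀.subgroupOf (Subgroup.centralizer ({z} : Set G))).map ρ = oGroup
  plane : t = 0 ∨ q8 m (plv t) = true ∧ (m = true ∨ t = 1)
  outer : ∃ g : ↥(Subgroup.centralizer ({z} : Set G)), (g : G) ∉ H₀ ∧ ρ g = outP t

universe u

/-- An outer element over the reflection commuting with an element of order five. -/
def PairStmt : Prop :=
  ∀ {G : Type u} [Group G] [Finite G] {z : G} {J H₀ : Subgroup G} {m : Bool} {t : Fin 4} {φ : G → V}
    {ρ : ↥(Subgroup.centralizer ({z} : Set G)) →* Equiv.Perm V}, FixCtx z J H₀ m t φ ρ →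
    ∃ c γ : ↥(Subgroup.centralizer ({z} : Set G)), (c : G) ∉ H₀ ∧ (γ : G) ∈ H₀ ∧ γ ^ 5 = 1 ∧
      c * γ = γ * c ∧ ρ c = outP t ∧ ρ γ = gam8

/-- The coordinates extend from the inner subgroup to the whole centraliser. -/
def ExtStmt : Prop :=
  ∀ {G : Type u} [Group G] [Finite G] (z : G) (J H₀ : Subgroup G) (hz : z * z = 1) (h1 : z ≠ 1)
    (hH : H₀ ≤ Subgroup.centralizer ({z} : Set G)) (hJ : J ≤ H₀) (hzJ : z ∈ J)
    (_ : Nat.card J = 2 ^ 9)
    (_ : ∀ g ∈ Subgroup.centralizer ({z} : Set G), ∀ j ∈ J, g * j * g⁻¹ ∈ J)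
    (_ : ∀ g ∈ Subgroup.centralizer ({z} : Set G), ∀ h ∈ H₀, g * h * g⁻¹ ∈ H₀)
    (_ : ∀ g ∈ Subgroup.centralizer ({z} : Set G), (∀ j ∈ J, Commute g j) → g ∈ J)
    (_ : ∀ g ∈ Subgroup.centralizer ({z} : Set G),
      (∀ h ∈ H₀, g * h * g⁻¹ * h⁻¹ ∈ J) → g ∈ H₀)
    (_ : Nat.card (Subgroup.centralizer ({z} : Set G)) = 2 ^ 10 * 25920)
    (_ : Nat.card H₀ = 2 ^ 9 * 25920)
    (m : Bool) (φ₀ : ↥H₀ → V)
    (ρ₀ : ↥(Subgroup.centralizer ({(⟨z, hJ hzJ⟩ : ↥H₀)} : Set ↥H₀)) →* Equiv.Perm V),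
    Fix8 (⟨z, hJ hzJ⟩ : ↥H₀) (J.subgroupOf H₀) m φ₀ ρ₀ →
    ∃ (t : Fin 4) (φ : G → V) (ρ : ↥(Subgroup.centralizer ({z} : Set G)) →* Equiv.Perm V),
      FixCtx z J H₀ m t φ ρ

theorem plane_facts :
    (∀ m : Bool, ∀ t : Fin 4, t ≠ 0 → (m = true ∨ t = 1) → q8 m (plv t) = true) ∧
    (∀ t : Fin 4, ∀ v, v.val % 64 = 0 → tauP t v = v → t ≠ 0 → v = 0 ∨ v = plv t) ∧
    (∀ v, gam8 (gam8 (gam8 (gam8 (gam8 v)))) = v) ∧
    (∀ v, gam8 v = v ↔ v.val % 64 < 4) ∧
    (∀ t v, gam8 (outP t v) = outP t (gam8 v)) := by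
  refine ⟨?_, ?_, ?_, ?_, ?_⟩ <;> decide +kernel

end H35.U6E
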