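import Cfsg.Agent.H2.U6E.Setup

/-!
In the centraliser of S3231 the subgroup over the inner automorphisms is self-centralising modulo
the core.
-/

set_option autoImplicit false

namespace H35.U6E

theorem aut_eq_one {T : Type*} [Group T] [Finite T] [IsSimpleGroup T] (hT : 2 < Nat.card T)
    (hnc : ∃ a b : T, a * b ≠ b * a) (K : Subgroup (MulAut T)) [K.Normal] (hK : K.index ≤ 2)
    (a : MulAut T) (hcomm : ∀ k ∈ K, a * k = k * a) : a = 1 := by
  have hall : ∀ x : T, MulAut.conj x ∈ K := by
    rcases IsSimpleGroup.eq_bot_or_eq_top_of_normal (K.comap (MulAut.conj : T →* MulAut T))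
      inferInstance with h | h
    · exfalso
      have h2 : (K.comap (MulAut.conj : T →* MulAut T)).index ≤ 2 := by
        rw [Subgroup.index_comap]
        exact le_trans (Nat.le_of_dvd (Nat.pos_of_ne_zero Subgroup.index_ne_zero_of_finite)
          (Subgroup.relIndex_dvd_index_of_normal K _)) hK
      rw [h, Subgroup.index_bot] at h2
      omega
    · intro x
      have : x ∈ K.comap MulAut.conj := h ▸ Subgroup.mem_top x
      exact this
  have hinj : Function.Injective (MulAut.conj : T →* MulAut T) := by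
    rcases IsSimpleGroup.eq_bot_or_eq_top_of_normal _
      (MonoidHom.normal_ker (MulAut.conj : T →* MulAut T)) with h | h
    · exact (MonoidHom.ker_eq_bot_iff _).mp h
    · exfalso
      obtain ⟨x, y, hxy⟩ := hnc
      have ha : MulAut.conj x = 1 := MonoidHom.mem_ker.mp (h ▸ Subgroup.mem_top x)
      have := DFunLike.congr_fun ha y
      rw [MulAut.conj_apply, MulAut.one_apply, mul_inv_eq_iff_eq_mul] at this
      exact hxy this
  refine MulEquiv.ext fun x => hinj (MulEquiv.ext fun y => ?_)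
  obtain ⟨y, rfl⟩ := a.surjective y
  have h3 := DFunLike.congr_fun (hcomm _ (hall x)) y
  simp only [MulAut.mul_apply, MulAut.conj_apply, map_mul, map_inv] at h3
  simp only [MulAut.conj_apply, MulAut.one_apply]
  exact h3

theorem exists_noncomm {T : Type*} [Group T] [IsSimpleGroup T] (hT : Nat.card T = 25920) :
    ∃ a b : T, a * b ≠ b * a := by
  classical
  by_contra hall
  push_neg at hall
  have : Finite T := Nat.finite_of_card_ne_zero (by omega)
  obtain ⟨x, hx⟩ := exists_prime_orderOf_dvd_card' (G := T) 2 (hp := ⟨Nat.prime_two⟩) (by omega)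
  have hn : (Subgroup.zpowers x).Normal := ⟨fun n hn g => by
    rwa [hall g n, mul_inv_cancel_right]⟩
  rcases IsSimpleGroup.eq_bot_or_eq_top_of_normal _ hn with h | h
  · rw [Subgroup.zpowers_eq_bot] at h
    rw [h, orderOf_one] at hx
    omega
  · have := congrArg (fun H : Subgroup T => Nat.card H) h
    simp only [Nat.card_zpowers, Subgroup.card_top, hx, hT] at this
    omega

theorem inner_of_aut {G : Type*} [Group G] [Finite G] {F : Type*} [Field F] [Fintype F] {z : G}
    {H₀ : Subgroup G} {π : ↥H₀ →* Cfsg.PSp 2 F}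
    [(Cfsg.pCore 2 ↥(Subgroup.centralizer ({z} : Set G))).Normal]
    (e : (↥(Subgroup.centralizer ({z} : Set G)) ⧸
      Cfsg.pCore 2 ↥(Subgroup.centralizer ({z} : Set G))) ≃* MulAut (Cfsg.PSp 2 F))
    (S : H2.U6E.Setup z ((Cfsg.pCore 2 ↥(Subgroup.centralizer ({z} : Set G))).map
      (Subgroup.centralizer ({z} : Set G)).subtype) H₀ π)
    (g : G) (hg : g ∈ Subgroup.centralizer ({z} : Set G))
    (hcm : ∀ h ∈ H₀, g * h * g⁻¹ * h⁻¹ ∈ (Cfsg.pCore 2 ↥(Subgroup.centralizer ({z} : Set G))).map
        (Subgroup.centralizer ({z} : Set G)).subtype) : g ∈ H₀ := by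
  set C := Subgroup.centralizer ({z} : Set G) with hC
  set f : ↥C →* MulAut (Cfsg.PSp 2 F) := e.toMonoidHom.comp (QuotientGroup.mk' _) with hf
  have hfs : Function.Surjective f := e.surjective.comp (QuotientGroup.mk'_surjective _)
  have hfk : ∀ x, f x = 1 ↔ x ∈ Cfsg.pCore 2 ↥C := fun x => by
    show e (QuotientGroup.mk' _ x) = 1 ↔ _
    rw [MulEquiv.map_eq_one_iff, QuotientGroup.mk'_apply, QuotientGroup.eq_one_iff]
  have hidx : (H₀.subgroupOf C).index = 2 := by
    have h1 := Subgroup.card_mul_index (H₀.subgroupOf C)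
    have h2 := S.card_cent
    rw [Nat.card_congr (Subgroup.subgroupOfEquivOfLe S.le_cent).toEquiv, S.card_H₀, h2] at h1
    omega
  have hn : (H₀.subgroupOf C).Normal := Subgroup.normal_of_index_eq_two hidx
  have hKn : ((H₀.subgroupOf C).map f).Normal := hn.map f hfs
  have hKidx : ((H₀.subgroupOf C).map f).index ≤ 2 := by
    have hd := Subgroup.index_map_dvd (H₀.subgroupOf C) hfs
    rw [hidx] at hd
    exact Nat.le_of_dvd two_pos hd
  have hcomm : ∀ k ∈ (H₀.subgroupOf C).map f, f ⟨g, hg⟩ * k = k * f ⟨g, hg⟩ := by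
    rintro _ ⟨h, hh, rfl⟩
    obtain ⟨y, hy, hye⟩ := hcm h hh
    have hy1 : f y = 1 := (hfk y).mpr hy
    have hy2 : y = ⟨g, hg⟩ * h * ⟨g, hg⟩⁻¹ * h⁻¹ := Subtype.ext hye
    rw [hy2, map_mul, map_mul, map_mul, map_inv, map_inv, mul_inv_eq_one,
      mul_inv_eq_iff_eq_mul] at hy1
    exact hy1
  have := S.simple_psp
  have hone : f ⟨g, hg⟩ = 1 :=
    aut_eq_one (by rw [S.card_psp]; norm_num) (exists_noncomm S.card_psp)
      ((H₀.subgroupOf C).map f) hKidx _ hcomm
  exact S.J_le ⟨⟨g, hg⟩, (hfk _).mp hone, rfl⟩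

end H35.U6E
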