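import Cfsg.Agent.H35.U6E.Ext
import Cfsg.Agent.H64.U6E.Parity

/-!
In the case with a fixed plane the transfer to the subgroup of index two of the involution
centraliser is trivial on the core.
-/

set_option autoImplicit false
set_option maxRecDepth 100000
set_option linter.unusedSectionVars false

namespace H35.U6E

open H38.U6C MulAction
open H50.U6C (vadd_comm vadd_assoc vadd_self vadd_zero')

theorem pol_zero_right : ∀ m : Bool, ∀ v : V, pol8 m v 0 = false := by decide +kernel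

theorem pol_radical : ∀ m : Bool, ∀ b : V, (∀ v, pol8 m b v = false) → b = 0 := by decide +kernel

theorem pol_plane_low : ∀ m : Bool, ∀ k : Fin 4, ∀ v : V, v.val < 64 →
    pol8 m (planeV k) v = false := by decide +kernel

theorem pol_diag : ∀ m : Bool, ∀ v : V, pol8 m v v = false := by decide +kernel

theorem pol_dual : ∀ m : Bool, ∀ k : Fin 4, ∀ b : V,
    (∀ v, pol8 m (planeV k) v = false → pol8 m b v = false) → b = 0 ∨ b = planeV k := by
  decide +kernel

theorem q_three : ∀ m : Bool, q8 m 3 = true ∧ (3 : V).val < 64 := by decide +kernel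

theorem unit_comm : ∀ i : Fin 6, ∃ p ∈ ([(13, 12, 4), (14, 12, 4), (7, 3, 1), (11, 3, 1),
    (16, 3, 32), (32, 3, 16)] : List (V × V × V)),
    IsRefVec p.1 ∧ IsRefVec p.2.1 ∧ vadd (refl8 p.1 (refl8 p.2.1 p.2.2)) p.2.2 = unitL i := by
  decide +kernel

theorem tauP_fix_low : ∀ t : Fin 4, ∀ v : V, v.val < 64 → tauP t v = v := by decide +kernel

theorem plane_six : unitV 6 = planeV 1 ∧ unitV 7 = planeV 2 := by decide +kernel

/-- An orbit that is not a point has even size. -/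
theorem orbit_even {G α : Type*} [Group G] [MulAction G α] [Finite G] {Q : Subgroup G} {n : ℕ}
    (hQ : Nat.card Q ∣ 2 ^ n) (c : α) (h : ∃ q ∈ Q, q • c ≠ c) :
    2 ∣ Nat.card (orbit Q c) := by
  rw [Nat.card_congr (orbitEquivQuotientStabilizer Q c)]
  obtain ⟨i, -, hi⟩ := (Nat.dvd_prime_pow Nat.prime_two).1
    ((Subgroup.index_dvd_card (stabilizer Q c)).trans hQ)
  show 2 ∣ (stabilizer Q c).index
  rcases i with _ | i
  · obtain ⟨q, hq, hne⟩ := h
    exfalso
    rw [pow_zero, Subgroup.index_eq_one] at hi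
    have hmem : (⟨q, hq⟩ : Q) ∈ stabilizer Q c := by rw [hi]; exact Subgroup.mem_top _
    exact hne (mem_stabilizer_iff.1 hmem)
  · exact hi ▸ ⟨2 ^ i, by rw [pow_succ, mul_comm]⟩

universe u

variable {G : Type u} [Group G] {z : G} {J H₀ : Subgroup G} {m : Bool} {t : Fin 4} {φ : G → V}
  {ρ : ↥(Subgroup.centralizer ({z} : Set G)) →* Equiv.Perm V}

namespace FixCtx

theorem phi_z (hc : FixCtx z J H₀ m t φ ρ) : φ z = 0 :=
  (hc.φ_ker z hc.z_mem).mpr (Or.inr rfl)

theorem phi_one (hc : FixCtx z J H₀ m t φ ρ) : φ 1 = 0 :=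
  (hc.φ_ker 1 J.one_mem).mpr (Or.inl rfl)

theorem phi_inv (hc : FixCtx z J H₀ m t φ ρ) {a : G} (ha : a ∈ J) : φ a⁻¹ = φ a := by
  refine eq_of_vadd_zero ?_
  rw [← hc.φ_mul _ (J.inv_mem ha) _ ha, inv_mul_cancel, hc.phi_one]

theorem phi_eq (hc : FixCtx z J H₀ m t φ ρ) {a b : G} (ha : a ∈ J) (hb : b ∈ J)
    (h : φ b = φ a) : b = a ∨ b = a * z := by
  have h0 : φ (a⁻¹ * b) = 0 := by
    rw [hc.φ_mul _ (J.inv_mem ha) _ hb, hc.phi_inv ha, h, vadd_self]
  rcases (hc.φ_ker _ (J.mul_mem (J.inv_mem ha) hb)).mp h0 with h1 | h1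
  · exact Or.inl (inv_mul_eq_one.mp h1).symm
  · exact Or.inr (eq_mul_of_inv_mul_eq h1)

theorem z_comm (hc : FixCtx z J H₀ m t φ ρ) {a : G} (ha : a ∈ J) : Commute a z :=
  Subgroup.mem_centralizer_singleton_iff.1 (hc.le_cent (hc.J_le ha))

theorem comm_iff (hc : FixCtx z J H₀ m t φ ρ) {a b : G} (ha : a ∈ J) (hb : b ∈ J) :
    Commute a b ↔ pol8 m (φ a) (φ b) = false := by
  have h := hc.φ_comm a ha b hb
  constructor
  · intro hcm
    rcases Bool.eq_false_or_eq_true (pol8 m (φ a) (φ b)) with hp | hp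
    · rw [hp, if_pos rfl, hcm.eq] at h
      exact absurd (mul_eq_left.mp h.symm) hc.ne_one
    · exact hp
  · intro hp
    rw [hp, if_neg Bool.false_ne_true, mul_one] at h
    exact h

theorem phi_mem (hc : FixCtx z J H₀ m t φ ρ) {a : G} (ha : a ∈ J)
    (h : ∀ b ∈ J, Commute a b) : a = 1 ∨ a = z := by
  refine (hc.φ_ker a ha).mp (pol_radical m _ fun v => ?_)
  obtain ⟨b, hb, rfl⟩ := hc.φ_surj v
  exact (hc.comm_iff ha hb).mp (h b hb)

theorem rho_add (hc : FixCtx z J H₀ m t φ ρ) (g : ↥(Subgroup.centralizer ({z} : Set G)))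
    (a b : V) : ρ g (vadd a b) = vadd (ρ g a) (ρ g b) := by
  obtain ⟨x, hx, rfl⟩ := hc.φ_surj a
  obtain ⟨y, hy, rfl⟩ := hc.φ_surj b
  rw [← hc.φ_mul x hx y hy, ← hc.ρ_φ _ _ (J.mul_mem hx hy), ← hc.ρ_φ _ _ hx, ← hc.ρ_φ _ _ hy,
    ← hc.φ_mul _ (hc.conj_mem _ g.2 x hx) _ (hc.conj_mem _ g.2 y hy)]
  congr 1
  group

theorem rho_fix (hc : FixCtx z J H₀ m t φ ρ) (g : ↥(Subgroup.centralizer ({z} : Set G))) {a : G}
    (ha : a ∈ J) (h : Commute (g : G) a) : ρ g (φ a) = φ a := by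
  rw [← hc.ρ_φ g a ha, h.eq, mul_inv_cancel_right]

theorem mem_of_comm (hc : FixCtx z J H₀ m t φ ρ) {g : G}
    (hg : g ∈ Subgroup.centralizer ({z} : Set G)) (h : ∀ a ∈ J, Commute g a) : g ∈ J :=
  (hc.ρ_ker ⟨g, hg⟩).mp <| Equiv.ext fun v => by
    obtain ⟨a, ha, rfl⟩ := hc.φ_surj v
    rw [hc.rho_fix ⟨g, hg⟩ ha (h a ha), Equiv.Perm.one_apply]

theorem sq_cases (hc : FixCtx z J H₀ m t φ ρ) {a : G} (ha : a ∈ J) : a * a = 1 ∨ a * a = z := by
  rw [hc.φ_sq a ha]
  split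
  · exact Or.inr rfl
  · exact Or.inl rfl

theorem pow_four (hc : FixCtx z J H₀ m t φ ρ) {a : G} (ha : a ∈ J) : a ^ 4 = 1 := by
  rw [show a ^ 4 = (a * a) * (a * a) by rw [← pow_two, ← pow_two, ← pow_mul]]
  rcases hc.sq_cases ha with h | h <;> rw [h]
  · exact one_mul 1
  · exact hc.sq

theorem card_J' (hc : FixCtx z J H₀ m t φ ρ) {Q : Subgroup G} (h : Q ≤ J) :
    Nat.card Q ∣ 2 ^ 9 :=
  hc.card_J ▸ Subgroup.card_dvd_of_le h

theorem not_out_one (c : G ⧸ Subgroup.centralizer ({z} : Set G)) : ¬ H64.U6E.Out H₀ c 1 :=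
  fun h => h (by rw [mul_one, inv_mul_cancel]; exact H₀.one_mem)

theorem out_base (hc : FixCtx z J H₀ m t φ ρ)
    (hidx : H₀.relIndex (Subgroup.centralizer ({z} : Set G)) = 2)
    {c : G ⧸ Subgroup.centralizer ({z} : Set G)} (hy : H64.U6E.pnt c = z) {g : G} (hg : g ∈ H₀) :
    ¬ H64.U6E.Out H₀ c g := by
  intro h
  refine h ((H64.U6E.conj_mem_iff hidx hc.le_cent ?_).mpr hg)
  rw [Subgroup.mem_centralizer_singleton_iff]
  rw [H64.U6E.pnt, mul_inv_eq_iff_eq_mul] at hy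
  exact hy

/-- A square of an element fixing the coset is not outside. -/
theorem not_out_sq (hc : FixCtx z J H₀ m t φ ρ)
    (hidx : H₀.relIndex (Subgroup.centralizer ({z} : Set G)) = 2)
    {c : G ⧸ Subgroup.centralizer ({z} : Set G)} {r : G} (hr : r • c = c) :
    ¬ H64.U6E.Out H₀ c (r * r) := by
  intro h
  have hC : c.out⁻¹ * r * c.out ∈ Subgroup.centralizer ({z} : Set G) := by
    have hcm := (H64.U6E.smul_eq_iff r c).1 hr
    rw [Subgroup.mem_centralizer_singleton_iff]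
    calc c.out⁻¹ * r * c.out * z = c.out⁻¹ * (r * H64.U6E.pnt c) * c.out := by
          rw [H64.U6E.pnt]; group
      _ = c.out⁻¹ * (H64.U6E.pnt c * r) * c.out := by rw [hcm.eq]
      _ = z * (c.out⁻¹ * r * c.out) := by rw [H64.U6E.pnt]; group
  have h2 : (⟨_, hC⟩ * ⟨_, hC⟩ : ↥(Subgroup.centralizer ({z} : Set G))) ∈
      H₀.subgroupOf (Subgroup.centralizer ({z} : Set G)) :=
    (Subgroup.mul_mem_iff_of_index_two hidx).mpr Iff.rfl
  refine h ?_
  have h3 : c.out⁻¹ * r * c.out * (c.out⁻¹ * r * c.out) ∈ H₀ := h2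
  rwa [show c.out⁻¹ * r * c.out * (c.out⁻¹ * r * c.out) = c.out⁻¹ * (r * r) * c.out by group] at h3

theorem plane_rigid (hc : FixCtx z J H₀ m t φ ρ) (hr : refl8 3 ∉ oGroup)
    (hidx : H₀.relIndex (Subgroup.centralizer ({z} : Set G)) = 2)
    (y : ↥(Subgroup.centralizer ({z} : Set G)))
    (hlow : ∀ v : V, v.val < 64 → ρ y v = v) : (y : G) ∈ J := by
  obtain ⟨g, hg, hgt⟩ := hc.outer
  have hy : (y : G) ∈ H₀ := by
    by_contra hy
    have h0 : y * g⁻¹ ∈ H₀.subgroupOf (Subgroup.centralizer ({z} : Set G)) := by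
      rw [Subgroup.mul_mem_iff_of_index_two hidx]
      exact iff_of_false hy fun h => hg
        ((Subgroup.inv_mem_iff (H₀.subgroupOf _)).mp h)
    have hx : ρ (y * g⁻¹) ∈ oGroup := hc.range₀ ▸ ⟨_, h0, rfl⟩
    have hfix : ∀ v : V, v.val < 64 → ρ (y * g⁻¹) (refl8 3 v) = v := fun v hv => by
      have h1 : outP t v = refl8 3 v := by
        rw [outP, Equiv.Perm.mul_apply]
        exact congrArg (refl8 3) (tauP_fix_low t v hv)
      rw [← h1, ← hgt, ← Equiv.Perm.mul_apply, ← map_mul, inv_mul_cancel_right]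
      exact hlow v hv
    have h2 : ρ (y * g⁻¹) * refl8 3 = 1 := Equiv.ext fun v => by
      obtain ⟨e, hl, k, hk⟩ := lowhigh v
      rw [Equiv.Perm.mul_apply, Equiv.Perm.one_apply, e, refl_three_add, hc.rho_add,
        hfix _ hl, hk, refl_plane, (oGroup_high hx 0).2 k]
    have h3 := oGroup.inv_mem hx
    rw [inv_eq_of_mul_eq_one_right h2] at h3
    exact hr h3
  refine (hc.ρ_ker y).mp (Equiv.ext fun v => ?_)
  have hx : ρ y ∈ oGroup := hc.range₀ ▸ ⟨_, hy, rfl⟩
  obtain ⟨e, hl, k, hk⟩ := lowhigh v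
  rw [Equiv.Perm.one_apply, e, hc.rho_add, hlow _ hl, hk, (oGroup_high hx 0).2 k]

variable [Finite G]

/-- A coset moved by a square root of the involution has four translates under the core. -/
theorem orbit_four (hc : FixCtx z J H₀ m t φ ρ)
    (hidx : H₀.relIndex (Subgroup.centralizer ({z} : Set G)) = 2)
    {c : G ⧸ Subgroup.centralizer ({z} : Set G)} {j : G} (hj : j ∈ J) (hne : j • c ≠ c)
    (ho : H64.U6E.Out H₀ c z) : 4 ∣ Nat.card (orbit J c) := by
  rw [Nat.card_congr (orbitEquivQuotientStabilizer J c)]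
  show 4 ∣ (stabilizer J c).index
  set S := stabilizer J c with hS
  obtain ⟨i, -, hi⟩ := (Nat.dvd_prime_pow Nat.prime_two).1 (hc.card_J ▸ S.index_dvd_card)
  have hmul := S.card_mul_index
  rcases i with _ | _ | i
  · rw [pow_zero, Subgroup.index_eq_one] at hi
    have hmem : (⟨j, hj⟩ : J) ∈ S := by rw [hi]; exact Subgroup.mem_top _
    exact absurd (mem_stabilizer_iff.1 hmem) hne
  · exfalso
    rw [hi, hc.card_J] at hmul
    have hsq : ∀ s ∈ S, (s : G) * s = 1 := fun s hs => by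
      rcases hc.sq_cases s.2 with h | h
      · exact h
      · exact absurd ho (h ▸ hc.not_out_sq hidx (mem_stabilizer_iff.1 hs))
    have hab : ∀ a ∈ S, ∀ b ∈ S, Commute (a : G) b := fun a ha b hb => by
      have h1 := hsq (a * b) (S.mul_mem ha hb)
      rw [Subgroup.coe_mul] at h1
      have ha1 := inv_eq_of_mul_eq_one_right (hsq a ha)
      have hb1 := inv_eq_of_mul_eq_one_right (hsq b hb)
      have h2 := inv_eq_of_mul_eq_one_right h1
      rw [mul_inv_rev, ha1, hb1] at h2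
      exact h2.symm
    obtain ⟨g, hg, hgS⟩ : ∃ g : J, (g : G) = j ∧ g ∉ S :=
      ⟨⟨j, hj⟩, rfl, fun h => hne (mem_stabilizer_iff.1 h)⟩
    have htop : ∀ x : J, x ∈ S ∨ g⁻¹ * x ∈ S := fun x => by
      by_cases hx : x ∈ S
      · exact Or.inl hx
      · refine Or.inr ((Subgroup.mul_mem_iff_of_index_two hi).mpr (iff_of_false ?_ hx))
        exact fun h => hgS (inv_mem_iff.mp h)
    have hcent : ∀ s ∈ S, Commute (g : G) s → (s : G) = 1 ∨ (s : G) = z := fun s hs hgs => by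
      refine hc.phi_mem s.2 fun b hb => ?_
      rcases htop ⟨b, hb⟩ with h | h
      · exact hab s hs _ h
      · have h1 := hgs.symm.mul_right (hab s hs _ h)
        rwa [Subgroup.coe_mul, Subgroup.coe_inv, mul_inv_cancel_left] at h1
    have hsmall : ∃ a b : V, ∀ s ∈ S, φ (s : J) = a ∨ φ (s : J) = b := by
      by_cases hall : ∀ s ∈ S, pol8 m (φ (g : J)) (φ (s : J)) = false
      · refine ⟨0, 0, fun s hs => Or.inl ((hc.φ_ker _ s.2).mpr ?_)⟩
        exact hcent s hs ((hc.comm_iff g.2 s.2).mpr (hall s hs))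
      · push Not at hall
        obtain ⟨s₀, hs₀, hp₀⟩ := hall
        refine ⟨0, φ (s₀ : J), fun s hs => ?_⟩
        by_cases hp : pol8 m (φ (g : J)) (φ (s : J)) = false
        · exact Or.inl ((hc.φ_ker _ s.2).mpr (hcent s hs ((hc.comm_iff g.2 s.2).mpr hp)))
        · refine Or.inr (eq_of_vadd_zero ?_)
          rw [← hc.φ_mul _ s.2 _ s₀.2]
          refine (hc.φ_ker _ (J.mul_mem s.2 s₀.2)).mpr ?_
          have h1 := hcent (s * s₀) (S.mul_mem hs hs₀)
          rw [Subgroup.coe_mul] at h1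
          refine h1 ?_
          have e1 := hc.φ_comm _ g.2 _ s.2
          have e2 := hc.φ_comm _ g.2 _ s₀.2
          rw [if_pos (by simpa using hp)] at e1
          rw [if_pos (by simpa using hp₀)] at e2
          show (g : G) * (s * s₀) = s * s₀ * g
          calc (g : G) * (s * s₀) = (s : G) * g * z * s₀ := by rw [← mul_assoc, e1]
            _ = (s : G) * g * (s₀ * z) := by rw [mul_assoc ((s : G) * g), (hc.z_comm s₀.2).eq]
            _ = (s : G) * (g * s₀) * z := by group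
            _ = (s : G) * (s₀ * g) * (z * z) := by rw [e2]; group
            _ = _ := by rw [hc.sq, mul_one, mul_assoc]
    obtain ⟨a, b, hab'⟩ := hsmall
    obtain ⟨x, hx, hxa⟩ := hc.φ_surj a
    obtain ⟨y, hy, hyb⟩ := hc.φ_surj b
    classical
    have hle : Nat.card S ≤ 4 := by
      have hmem : ∀ s : S, ((s : J) : G) ∈ ({x, x * z, y, y * z} : Finset G) := fun s => by
        simp only [Finset.mem_insert, Finset.mem_singleton]
        rcases hab' _ s.2 with h | h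
        · rcases hc.phi_eq hx (s : J).2 (h.trans hxa.symm) with h' | h'
          · exact Or.inl h'
          · exact Or.inr (Or.inl h')
        · rcases hc.phi_eq hy (s : J).2 (h.trans hyb.symm) with h' | h'
          · exact Or.inr (Or.inr (Or.inl h'))
          · exact Or.inr (Or.inr (Or.inr h'))
      refine le_trans (Nat.card_le_card_of_injective
        (fun s : S => (⟨_, hmem s⟩ : ({x, x * z, y, y * z} : Finset G))) fun p q h =>
          Subtype.ext (Subtype.ext (congrArg Subtype.val h :))) ?_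
      rw [Nat.card_eq_fintype_card, Fintype.card_coe]
      exact Finset.card_le_four
    omega
  · exact hi ▸ ⟨2 ^ i, by rw [pow_succ, pow_succ]; ring⟩

theorem transfer_z (hc : FixCtx z J H₀ m t φ ρ)
    (hidx : H₀.relIndex (Subgroup.centralizer ({z} : Set G)) = 2) :
    MonoidHom.transfer (H64.U6E.chi H₀ hidx) z = 1 := by
  have hz2 : z ^ 2 = 1 := (pow_two z).trans hc.sq
  have hz4 : z ^ 4 = 1 := hc.pow_four hc.z_mem
  have hP0 : ∀ n : ℕ, z ^ n = 1 → ∀ Q : G ⧸ Subgroup.centralizer ({z} : Set G) → Prop,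
      (∀ c, Q c → H64.U6E.Out H₀ c (z ^ n)) →
      Nat.card {c : G ⧸ Subgroup.centralizer ({z} : Set G) // Q c} = 0 := fun n hn Q hQ => by
    have : IsEmpty {c : G ⧸ Subgroup.centralizer ({z} : Set G) // Q c} :=
      ⟨fun ⟨c, hcq⟩ => not_out_one c (hn ▸ hQ c hcq)⟩
    exact Nat.card_of_isEmpty
  rw [H64.U6E.transfer_parity hidx hc.le_cent z (by rw [pow_mul z 4 2, hz4, one_pow])
    (by rw [hP0 2 hz2 _ fun c h => h.2.2]; exact dvd_zero _)
    (by rw [hP0 4 hz4 _ fun c h => h.2.2]; exact dvd_zero _)]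
  refine (even_iff_two_dvd.mpr ?_).neg_one_pow
  refine H64.U6E.dvd_card J _ 2 (fun q hq c h => ?_) fun c h => orbit_even (hc.card_J' le_rfl) c ?_
  · refine ⟨?_, (H64.U6E.out_smul_comm hidx hc.le_cent (hc.z_comm hq) c).mpr h.2⟩
    rw [← mul_smul, ← (hc.z_comm hq).eq, mul_smul, h.1]
  · by_contra hall
    push Not at hall
    have hy : H64.U6E.pnt c ∈ J := by
      refine hc.mem_of_comm ?_ fun a ha => ((H64.U6E.smul_eq_iff a c).1 (hall a ha)).symm
      rw [Subgroup.mem_centralizer_singleton_iff]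
      exact ((H64.U6E.smul_eq_iff z c).1 h.1).symm
    rcases hc.phi_mem hy fun a ha => ((H64.U6E.smul_eq_iff a c).1 (hall a ha)).symm with h1 | h1
    · exact hc.ne_one (conj_eq_one_iff.mp h1)
    · exact hc.out_base hidx h1 (hc.J_le hc.z_mem) h.2

theorem transfer_plane (hc : FixCtx z J H₀ m t φ ρ) (hr : refl8 3 ∉ oGroup)
    (hidx : H₀.relIndex (Subgroup.centralizer ({z} : Set G)) = 2) {j : G} (hj : j ∈ J) {k : Fin 4}
    (hk : φ j = planeV k) : MonoidHom.transfer (H64.U6E.chi H₀ hidx) j = 1 := by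
  have hj4 : j ^ 4 = 1 := hc.pow_four hj
  have hj2 : j ^ 2 = j * j := pow_two j
  rw [H64.U6E.transfer_parity hidx hc.le_cent j (by rw [pow_mul j 4 2, hj4, one_pow]) ?_ ?_]
  rotate_left
  · rcases hc.sq_cases hj with h | h
    · have : IsEmpty {c : G ⧸ Subgroup.centralizer ({z} : Set G) //
          j • c ≠ c ∧ j ^ 2 • c = c ∧ H64.U6E.Out H₀ c (j ^ 2)} :=
        ⟨fun ⟨c, hcq⟩ => not_out_one c (h ▸ hj2 ▸ hcq.2.2)⟩
      rw [Nat.card_of_isEmpty]
      exact dvd_zero _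
    · rw [hj2, h]
      refine H64.U6E.dvd_card J _ 4 (fun q hq c hcq => ⟨?_, ?_, ?_⟩) fun c hcq =>
        hc.orbit_four hidx hj hcq.1 hcq.2.2
      · intro he
        refine hcq.1 ?_
        rcases Bool.eq_false_or_eq_true (pol8 m (φ j) (φ q)) with hp | hp
        · have e := hc.φ_comm j hj q hq
          rw [hp, if_pos rfl] at e
          rw [← mul_smul, e, mul_smul, hcq.2.1, mul_smul, smul_left_cancel_iff] at he
          exact he
        · rw [← mul_smul, ((hc.comm_iff hj hq).mpr hp).eq, mul_smul, smul_left_cancel_iff] at he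
          exact he
      · rw [← mul_smul, ← (hc.z_comm hq).eq, mul_smul, hcq.2.1]
      · exact (H64.U6E.out_smul_comm hidx hc.le_cent (hc.z_comm hq) c).mpr hcq.2.2
  · have : IsEmpty {c : G ⧸ Subgroup.centralizer ({z} : Set G) //
        j ^ 2 • c ≠ c ∧ j ^ 4 • c = c ∧ H64.U6E.Out H₀ c (j ^ 4)} :=
      ⟨fun ⟨c, hcq⟩ => not_out_one c (hj4 ▸ hcq.2.2)⟩
    rw [Nat.card_of_isEmpty]
    exact dvd_zero _
  refine (even_iff_two_dvd.mpr ?_).neg_one_pow
  set Q : Subgroup G := J ⊓ Subgroup.centralizer ({j} : Set G) with hQ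
  have hQj : ∀ q ∈ Q, Commute q j := fun q hq => Subgroup.mem_centralizer_singleton_iff.1 hq.2
  have hmem : ∀ v, pol8 m (planeV k) v = false → ∃ q ∈ Q, φ q = v := fun v hv => by
    obtain ⟨q, hq, rfl⟩ := hc.φ_surj v
    refine ⟨q, ⟨hq, Subgroup.mem_centralizer_singleton_iff.2 ?_⟩, rfl⟩
    exact ((hc.comm_iff hj hq).mpr (hk ▸ hv)).symm.eq
  refine H64.U6E.dvd_card Q _ 2 (fun q hq c h => ?_) fun c h =>
    orbit_even (hc.card_J' inf_le_left) c ?_
  · refine ⟨?_, (H64.U6E.out_smul_comm hidx hc.le_cent (hQj q hq) c).mpr h.2⟩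
    rw [← mul_smul, ← (hQj q hq).eq, mul_smul, h.1]
  by_contra hall
  push Not at hall
  set y := H64.U6E.pnt c with hy
  have hcy : ∀ q ∈ Q, Commute y q := fun q hq =>
    ((H64.U6E.smul_eq_iff q c).1 (hall q hq)).symm
  have hzQ : z ∈ Q :=
    ⟨hc.z_mem, Subgroup.mem_centralizer_singleton_iff.2 (hc.z_comm hj).symm.eq⟩
  have hyC : y ∈ Subgroup.centralizer ({z} : Set G) :=
    Subgroup.mem_centralizer_singleton_iff.2 (hcy z hzQ).eq
  have hyJ : y ∈ J := hc.plane_rigid hr hidx ⟨y, hyC⟩ fun v hv => by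
    obtain ⟨q, hq, rfl⟩ := hmem v (pol_plane_low m k v hv)
    exact hc.rho_fix _ hq.1 (hcy q hq)
  obtain ⟨r, hr', hr3⟩ := hmem 3 (pol_plane_low m k 3 (q_three m).2)
  have hrr : r * r = z := by rw [hc.φ_sq r hr'.1, hr3, if_pos (q_three m).1]
  rcases pol_dual m k (φ y) (fun v hv => by
      obtain ⟨q, hq, rfl⟩ := hmem v hv
      exact (hc.comm_iff hyJ hq.1).mp (hcy q hq)) with h0 | h0
  · rcases (hc.φ_ker y hyJ).mp h0 with h1 | h1
    · exact hc.ne_one (conj_eq_one_iff.mp h1)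
    · exact hc.out_base hidx h1 (hc.J_le hj) h.2
  · rcases hc.phi_eq hj hyJ (h0.trans hk.symm) with h1 | h1
    · exact H64.U6E.not_out_self (hc.J_le hc.z_mem) c (by rw [← hy, h1]; exact h.2)
    · refine h.2 ?_
      have hsq := hc.not_out_sq hidx (hall r hr')
      rw [H64.U6E.Out, not_not, hrr] at hsq
      have e : j = y * z := by rw [h1, mul_assoc, hc.sq, mul_one]
      have hpz : c.out⁻¹ * y * c.out = z := by rw [hy, H64.U6E.pnt]; group
      rw [e, show c.out⁻¹ * (y * z) * c.out = (c.out⁻¹ * y * c.out) * (c.out⁻¹ * z * c.out) by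
        group, hpz]
      exact H₀.mul_mem (hc.J_le hc.z_mem) hsq

end FixCtx

/-- The transfer kills the core. -/
theorem transfer_J [Finite G] (hc : FixCtx z J H₀ m t φ ρ) (hr : refl8 3 ∉ oGroup)
    (hidx : H₀.relIndex (Subgroup.centralizer ({z} : Set G)) = 2) :
    ∀ j ∈ J, MonoidHom.transfer (H64.U6E.chi H₀ hidx) j = 1 := by
  set T := MonoidHom.transfer (H64.U6E.chi H₀ hidx) with hT
  set P : V → Prop := fun v => ∀ j ∈ J, φ j = v → T j = 1 with hP
  have hone : ∀ v, ∀ a ∈ J, φ a = v → T a = 1 → P v := fun v a ha hav h1 b hb hbv => by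
    rcases hc.phi_eq ha hb (hbv.trans hav.symm) with e | e
    · rw [e, h1]
    · rw [e, map_mul, h1, hc.transfer_z hidx, one_mul]
  have hadd : ∀ v w, P v → P w → P (vadd v w) := fun v w hv hw => by
    obtain ⟨a, ha, rfl⟩ := hc.φ_surj v
    obtain ⟨b, hb, rfl⟩ := hc.φ_surj w
    refine hone _ (a * b) (J.mul_mem ha hb) (hc.φ_mul a ha b hb) ?_
    rw [map_mul, hv a ha rfl, hw b hb rfl, one_mul]
  have hz : P 0 := hone 0 1 J.one_mem hc.phi_one (map_one T)
  have hlow : ∀ i : Fin 6, P (unitL i) := fun i => by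
    obtain ⟨⟨b, a, v₀⟩, -, hb, ha, he⟩ := unit_comm i
    obtain ⟨g, hg, hρ⟩ : refl8 b * refl8 a ∈
        (H₀.subgroupOf (Subgroup.centralizer ({z} : Set G))).map ρ :=
      hc.range₀.symm ▸ pair_mem hb ha
    obtain ⟨j₀, hj₀, hφ⟩ := hc.φ_surj v₀
    have hcj := hc.conj_mem g g.2 j₀ hj₀
    refine hone _ ((g : G) * j₀ * (g : G)⁻¹ * j₀⁻¹) (J.mul_mem hcj (J.inv_mem hj₀)) ?_ ?_
    · rw [hc.φ_mul _ hcj _ (J.inv_mem hj₀), hc.phi_inv hj₀, hc.ρ_φ g j₀ hj₀, hρ, hφ]
      exact he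
    · rw [map_mul, map_mul, map_mul, map_inv, map_inv, mul_right_comm (T (g : G)), mul_inv_cancel,
        one_mul, mul_inv_cancel]
  have hpl : ∀ k, P (planeV k) := fun k j hj hk => hc.transfer_plane hr hidx hj hk
  have hunit : ∀ i : Fin 8, P (unitV i) := fun i => by
    rcases lt_or_ge i.val 6 with hi | hi
    · exact hlow ⟨i.val, hi⟩
    · have : i = 6 ∨ i = 7 := by omega
      rcases this with rfl | rfl
      · exact plane_six.1 ▸ hpl 1
      · exact plane_six.2 ▸ hpl 2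
  have hpick : ∀ v i, P (pick v i) := fun v i => by
    rw [pick]
    split
    · exact hunit i
    · exact hz
  intro j hj
  have hall : P (φ j) := by
    rw [decomp (φ j)]
    exact hadd _ _ (hadd _ _ (hadd _ _ (hpick _ _) (hpick _ _)) (hadd _ _ (hpick _ _) (hpick _ _)))
      (hadd _ _ (hadd _ _ (hpick _ _) (hpick _ _)) (hadd _ _ (hpick _ _) (hpick _ _)))
  exact hall j hj rfl

end H35.U6E
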