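import Cfsg.Agent.H35.U6E.Basic
import Mathlib

/-!
An outer element over the reflection commuting with an element of order five.
-/

set_option autoImplicit false
set_option maxRecDepth 100000

namespace H35.U6E

open H38.U6C

theorem gam8_mem : gam8 ∈ oGroup := by
  have hv : IsRefVec 12 ∧ IsRefVec 16 ∧ IsRefVec 20 ∧ IsRefVec 32 := by decide +kernel
  rw [gam8, mul_assoc]
  exact oGroup.mul_mem (Subgroup.subset_closure ⟨_, _, hv.1, hv.2.1, rfl⟩)
    (Subgroup.subset_closure ⟨_, _, hv.2.2.1, hv.2.2.2, rfl⟩)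

theorem gam8_pow : gam8 ^ 5 = 1 := Equiv.ext fun v => by
  simp only [pow_succ, pow_zero, one_mul, Equiv.Perm.mul_apply, Equiv.Perm.one_apply]
  exact plane_facts.2.2.1 v

theorem gam8_ne : gam8 ≠ 1 := fun e => by
  have h : gam8 4 ≠ 4 := fun e' => by
    have := (plane_facts.2.2.2.1 4).mp e'
    revert this; decide
  exact h (by rw [e]; rfl)

theorem gam8_outP (t : Fin 4) : outP t * gam8 = gam8 * outP t :=
  Equiv.ext fun v => (plane_facts.2.2.2.2 t v).symm

universe u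

theorem pair : PairStmt.{u} := by
  intro G _ _ z J H₀ m t φ ρ hc
  classical
  obtain ⟨g, hg, hgt⟩ := hc.outer
  obtain ⟨h, hh, he⟩ : ∃ h : ↥(Subgroup.centralizer ({z} : Set G)), (h : G) ∈ H₀ ∧ ρ h = gam8 := by
    have : gam8 ∈ (H₀.subgroupOf (Subgroup.centralizer ({z} : Set G))).map ρ := by
      rw [hc.range₀]; exact gam8_mem
    exact this
  have hpJ : ∀ j : ↥(Subgroup.centralizer ({z} : Set G)), (j : G) ∈ J → j ^ 512 = 1 := fun j hj => by
    have : (⟨j.1, hj⟩ : ↥J) ^ 512 = 1 := by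
      rw [show (512 : ℕ) = Nat.card J by rw [hc.card_J]; norm_num]
      exact pow_card_eq_one'
    refine Subtype.ext ?_
    have h2 := congrArg Subtype.val this
    rw [Subgroup.coe_pow, Subgroup.coe_one] at h2 ⊢
    exact h2
  set γ := h ^ 1536 with hγ
  have hγ5 : γ ^ 5 = 1 := by
    have h5 : ((h ^ 5 : ↥(Subgroup.centralizer ({z} : Set G))) : G) ∈ J := (hc.ρ_ker _).mp (by rw [map_pow, he, gam8_pow])
    rw [hγ, ← pow_mul, show 1536 * 5 = 5 * 512 * 3 by norm_num, pow_mul, pow_mul, hpJ _ h5,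
      one_pow]
  have hργ : ρ γ = gam8 := by
    rw [hγ, map_pow, he, show 1536 = 5 * 307 + 1 by norm_num, pow_succ, pow_mul, gam8_pow,
      one_pow, one_mul]
  have : Fact (Nat.Prime 5) := ⟨by norm_num⟩
  -- the preimage of the group of order five
  set K : Subgroup ↥(Subgroup.centralizer ({z} : Set G)) := (Subgroup.zpowers gam8).comap ρ with hK
  let π : ↥K →* Equiv.Perm V := ρ.comp K.subtype
  have hrange : π.range = Subgroup.zpowers gam8 := by
    refine le_antisymm ?_ (Subgroup.zpowers_le.mpr ⟨⟨γ, ?_⟩, hργ⟩)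
    · rintro _ ⟨x, rfl⟩
      exact x.2
    · show ρ γ ∈ Subgroup.zpowers gam8
      rw [hργ]
      exact Subgroup.mem_zpowers _
  have hker : Nat.card π.ker = 2 ^ 9 := by
    rw [← hc.card_J]
    refine Nat.card_congr
      { toFun := fun x => ⟨((x : ↥K) : ↥(Subgroup.centralizer ({z} : Set G))), (hc.ρ_ker _).mp x.2⟩
        invFun := fun j => ⟨⟨⟨j.1, hc.le_cent (hc.J_le j.2)⟩, ?_⟩, (hc.ρ_ker _).mpr j.2⟩
        left_inv := fun x => rfl
        right_inv := fun j => rfl }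
    show ρ _ ∈ Subgroup.zpowers gam8
    rw [(hc.ρ_ker ⟨j.1, hc.le_cent (hc.J_le j.2)⟩).mpr j.2]
    exact one_mem _
  have hgord : Nat.card (Subgroup.zpowers gam8) = 5 := by
    rw [Nat.card_zpowers, orderOf_eq_prime gam8_pow gam8_ne]
  have hcardK : Nat.card K = 5 * 2 ^ 9 := by
    rw [Subgroup.card_eq_card_quotient_mul_card_subgroup π.ker, hker,
      Nat.card_congr (QuotientGroup.quotientKerEquivRange π).toEquiv, hrange, hgord]
  have hfac : (Nat.card K).factorization 5 = 1 := by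
    rw [hcardK, Nat.factorization_mul (by norm_num) (by norm_num), Finsupp.add_apply,
      Nat.Prime.factorization_self (by norm_num), Nat.factorization_eq_zero_of_not_dvd (by norm_num)]
  have hγK : γ ∈ K := Subgroup.mem_comap.mpr (by rw [hργ]; exact Subgroup.mem_zpowers _)
  have hρc : ρ (g * γ * g⁻¹) = gam8 := by
    rw [map_mul, map_mul, map_inv, hργ, hgt, gam8_outP, mul_inv_cancel_right]
  have hδK : g * γ * g⁻¹ ∈ K := Subgroup.mem_comap.mpr (by rw [hρc]; exact Subgroup.mem_zpowers _)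
  have hγne : γ ≠ 1 := fun e => gam8_ne (by rw [← hργ, e, map_one])
  have hsyl : ∀ x : ↥K, x ^ 5 = 1 → x ≠ 1 →
      ∃ P : Sylow 5 ↥K, (P : Subgroup ↥K) = Subgroup.zpowers x := fun x hx hx1 =>
    ⟨Sylow.ofCard (Subgroup.zpowers x) ((Nat.card_zpowers x).trans
      ((orderOf_eq_prime hx hx1).trans (by rw [hfac, pow_one]))), rfl⟩
  obtain ⟨P, hP⟩ := hsyl ⟨γ, hγK⟩ (Subtype.ext hγ5) (fun e => hγne (congrArg Subtype.val e))
  obtain ⟨Q, hQ⟩ := hsyl ⟨_, hδK⟩ (Subtype.ext (by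
    show (g * γ * g⁻¹) ^ 5 = 1
    rw [conj_pow, hγ5, mul_one, mul_inv_cancel]))
    (fun e => hγne (conj_eq_one_iff.mp (congrArg Subtype.val e)))
  obtain ⟨k, hk⟩ := MulAction.exists_smul_eq ↥K Q P
  have hmem : k * ⟨_, hδK⟩ * k⁻¹ ∈ Subgroup.zpowers (⟨γ, hγK⟩ : ↥K) := by
    rw [← hP, ← hk]
    show _ ∈ ((k • Q : Sylow 5 ↥K) : Set ↥K)
    rw [Sylow.coe_smul]
    exact ⟨⟨_, hδK⟩, (hQ.symm ▸ Subgroup.mem_zpowers _ : _ ∈ (Q : Subgroup ↥K)), rfl⟩
  obtain ⟨n, hn⟩ := hmem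
  have hn' : γ ^ n = (k : ↥(Subgroup.centralizer ({z} : Set G))) * (g * γ * g⁻¹) * (k : ↥(Subgroup.centralizer ({z} : Set G)))⁻¹ := congrArg Subtype.val hn
  obtain ⟨i, hi⟩ := Subgroup.mem_zpowers_iff.mp (show ρ (k : ↥(Subgroup.centralizer ({z} : Set G))) ∈ Subgroup.zpowers gam8 from k.2)
  have e1 : gam8 ^ n = gam8 := by
    have h2 := congrArg ρ hn'
    rw [map_zpow, hργ, map_mul, map_mul, hρc, map_inv, ← hi] at h2
    rw [h2, show gam8 ^ i * gam8 * (gam8 ^ i)⁻¹ = gam8 by group]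
  have hord : orderOf γ = 5 := orderOf_eq_prime hγ5 hγne
  have e2 : γ ^ n = γ := by
    rw [← zpow_mod_orderOf]
    conv_rhs => rw [← zpow_one γ, ← zpow_mod_orderOf]
    rw [hord]
    have := (zpow_eq_zpow_iff_modEq.mp (e1.trans (zpow_one gam8).symm))
    rw [orderOf_eq_prime gam8_pow gam8_ne] at this
    rw [this]
  rw [e2] at hn'
  refine ⟨γ ^ (-i) * (k : ↥(Subgroup.centralizer ({z} : Set G))) * g, γ, fun hmem => hg ?_, ?_, hγ5, ?_, ?_, hργ⟩
  · have h3 : ((γ ^ (-i) * (k : ↥(Subgroup.centralizer ({z} : Set G))) : ↥(Subgroup.centralizer ({z} : Set G))) : G) ∈ H₀ := by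
      refine hc.J_le ((hc.ρ_ker _).mp ?_)
      rw [map_mul, map_zpow, hργ, ← hi, ← zpow_add, neg_add_cancel, zpow_zero]
    rw [Subgroup.coe_mul] at hmem
    exact (Subgroup.mul_mem_cancel_left H₀ h3).mp hmem
  · rw [hγ, Subgroup.coe_pow]
    exact H₀.pow_mem hh _
  · rw [← mul_inv_eq_iff_eq_mul]
    calc γ ^ (-i) * (k : ↥(Subgroup.centralizer ({z} : Set G))) * g * γ * (γ ^ (-i) * (k : ↥(Subgroup.centralizer ({z} : Set G))) * g)⁻¹
        = γ ^ (-i) * ((k : ↥(Subgroup.centralizer ({z} : Set G))) * (g * γ * g⁻¹) * (k : ↥(Subgroup.centralizer ({z} : Set G)))⁻¹) * (γ ^ (-i))⁻¹ := by group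
      _ = γ := by rw [← hn']; group
  · rw [map_mul, map_mul, map_zpow, hργ, ← hi, hgt, ← zpow_add, neg_add_cancel, zpow_zero,
      one_mul]

end H35.U6E
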