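import Cfsg.Agent.H35.U6E.Basic

/-!
Finite facts on the model with a fixed plane: moving a vector to a standard one by two reflections
fixing the earlier standard vectors, and the possible actions on the plane.
-/

set_option autoImplicit false
set_option maxRecDepth 100000
set_option maxHeartbeats 1000000

namespace H35.U6E

open H38.U6C

/-- The unit vectors. -/
def unitV : Fin 8 → V := ![1, 2, 4, 8, 16, 32, 64, 128]

/-- The vectors of the plane. -/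
def planeV : Fin 4 → V := ![0, 64, 128, 192]

/-- The low part. -/
def lowV (v : V) : V := ⟨v.val % 64, by omega⟩

/-- The plane part. -/
def highV (v : V) : V := ⟨64 * (v.val / 64), by omega⟩

/-- The unit vector `i` or zero. -/
def pick (v : V) (i : Fin 8) : V := if bit8 v i.val then unitV i else 0

/-- Pairs of reflection vectors, packed. -/
def moveTab : List (List ℕ) :=
  [[0, 0, 3, 0, 718, 199, 7, 0, 462, 203, 11, 0, 0, 0, 0, 14, 0, 0, 0, 18, 0, 0, 0, 22, 0, 0, 0, 26, 474, 223, 31, 0, 0, 0, 0, 34, 0, 0, 0, 38, 0, 0, 0, 42, 490, 239, 47, 0, 0, 0, 0, 50, 0, 0, 0, 54, 0, 0, 0, 58, 506, 255, 63, 0],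
   [0, 0, 0, 0, 0, 0, 1109, 0, 0, 0, 1113, 0, 0, 0, 0, 13, 0, 0, 0, 17, 0, 0, 0, 21, 0, 0, 0, 25, 0, 0, 849, 0, 0, 0, 0, 33, 0, 0, 0, 37, 0, 0, 0, 41, 0, 0, 865, 0, 0, 0, 0, 49, 0, 0, 0, 53, 0, 0, 0, 57, 0, 0, 881, 0],
   [0, 0, 0, 0, 0, 0, 0, 0, 12, 0, 0, 0, 0, 0, 0, 0, 0, 0, 0, 0, 0, 0, 0, 0, 0, 0, 0, 0, 24, 0, 0, 0, 0, 0, 0, 0, 0, 0, 0, 0, 0, 0, 0, 0, 40, 0, 0, 0, 0, 0, 0, 0, 0, 0, 0, 0, 0, 0, 0, 0, 56, 0, 0, 0],
   [0, 0, 0, 0, 0, 0, 0, 0, 0, 0, 0, 0, 0, 0, 0, 0, 0, 0, 0, 0, 0, 0, 0, 0, 0, 0, 0, 0, 20, 0, 0, 0, 0, 0, 0, 0, 0, 0, 0, 0, 0, 0, 0, 0, 36, 0, 0, 0, 0, 0, 0, 0, 0, 0, 0, 0, 0, 0, 0, 0, 52, 0, 0, 0],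
   [0, 0, 0, 0, 0, 0, 0, 0, 0, 0, 0, 0, 0, 0, 0, 0, 0, 0, 0, 0, 0, 0, 0, 0, 0, 0, 0, 0, 0, 0, 0, 0, 48, 0, 0, 0, 0, 0, 0, 0, 0, 0, 0, 0, 0, 0, 0, 0, 32, 0, 0, 0, 0, 0, 0, 0, 0, 0, 0, 0, 0, 0, 0, 0],
   [0, 0, 0, 0, 0, 0, 0, 0, 0, 0, 0, 0, 0, 0, 0, 0, 0, 0, 0, 0, 0, 0, 0, 0, 0, 0, 0, 0, 0, 0, 0, 0, 0, 0, 0, 0, 0, 0, 0, 0, 0, 0, 0, 0, 0, 0, 0, 0, 16, 0, 0, 0, 0, 0, 0, 0, 0, 0, 0, 0, 0, 0, 0, 0]]

/-- The first reflection vector of the table. -/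
def moveA (i : Fin 6) (v : V) : V :=
  ⟨((moveTab.getD i.val []).getD v.val 0) / 64 % 256, Nat.mod_lt _ (by norm_num)⟩

/-- The second reflection vector of the table. -/
def moveB (i : Fin 6) (v : V) : V :=
  ⟨((moveTab.getD i.val []).getD v.val 0) % 64, by omega⟩

/-- The unit vector `i < 6`. -/
def unitL (i : Fin 6) : V := unitV ⟨i.val, by omega⟩

theorem move_cert : ∀ m : Bool, ∀ i : Fin 6, ∀ v : V, v.val < 64 → v ≠ 0 →
    q8 m v = q8 m (unitL i) →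
    (∀ j : Fin 6, j < i → pol8 m v (unitL j) = pol8 m (unitL i) (unitL j)) →
    refl8 (moveA i v) (refl8 (moveB i v) v) = unitL i ∧
    ∀ j : Fin 6, j < i → refl8 (moveA i v) (refl8 (moveB i v) (unitL j)) = unitL j := by
  decide +kernel

theorem decomp : ∀ v : V, v = vadd (vadd (vadd (pick v 0) (pick v 1)) (vadd (pick v 2) (pick v 3)))
    (vadd (vadd (pick v 4) (pick v 5)) (vadd (pick v 6) (pick v 7))) := by decide +kernel

theorem lowhigh : ∀ v : V, v = vadd (lowV v) (highV v) ∧ (lowV v).val < 64 ∧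
    ∃ k : Fin 4, highV v = planeV k := by decide +kernel

theorem low_iff : ∀ m : Bool, ∀ v : V,
    v.val < 64 ↔ pol8 m v 64 = false ∧ pol8 m v 128 = false := by decide +kernel

theorem high_pick : ∀ v : V, v.val < 64 → pick v 6 = 0 ∧ pick v 7 = 0 := by decide +kernel

theorem plane_mod : ∀ k : Fin 4, (planeV k).val % 64 = 0 := by decide +kernel

theorem plane_of_mod : ∀ v : V, v.val % 64 = 0 → ∃ k : Fin 4, v = planeV k := by decide +kernel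

theorem refl_high : ∀ a v : V, (refl8 a v).val / 64 = v.val / 64 := by decide +kernel

theorem refl_plane : ∀ a : V, ∀ k : Fin 4, refl8 a (planeV k) = planeV k := by decide +kernel

theorem fix_plane : ∀ v : V,
    refl8 3 (refl8 12 v) = v → refl8 3 (refl8 16 v) = v → refl8 3 (refl8 17 v) = v →
    refl8 3 (refl8 18 v) = v → refl8 3 (refl8 20 v) = v → refl8 3 (refl8 32 v) = v →
    v.val % 64 = 0 := by decide +kernel

theorem refl_three_add : ∀ a b : V, refl8 3 (vadd a b) = vadd (refl8 3 a) (refl8 3 b) := by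
  decide +kernel

theorem refl_three_q : ∀ m : Bool, ∀ v : V, q8 m (refl8 3 v) = q8 m v := by decide +kernel

theorem refl_vecs : IsRefVec 3 ∧ IsRefVec 12 ∧ IsRefVec 16 ∧ IsRefVec 17 ∧ IsRefVec 18 ∧
    IsRefVec 20 ∧ IsRefVec 32 := by decide +kernel

theorem plane_cases : ∀ m : Bool, ∀ x y z : Fin 4, x ≠ 0 → y ≠ 0 → z ≠ 0 → x ≠ y →
    vadd (planeV x) (planeV y) = planeV z →
    q8 m (planeV x) = q8 m 64 → q8 m (planeV y) = q8 m 128 → q8 m (planeV z) = q8 m 192 →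
    (![0, x, y, z] : Fin 4 → Fin 4) x = 1 → (![0, x, y, z] : Fin 4 → Fin 4) y = 2 →
    ∃ t : Fin 4, (t = 0 ∨ q8 m (plv t) = true ∧ (m = true ∨ t = 1)) ∧
      tauP t 64 = planeV x ∧ tauP t 128 = planeV y ∧ tauP t 192 = planeV z := by
  decide +kernel

theorem outP_split : ∀ t : Fin 4, ∀ v : V,
    outP t v = vadd (refl8 3 (lowV v)) (tauP t (highV v)) := by decide +kernel

theorem pol8_def (m : Bool) (a b : V) : pol8 m a b = (q8 m (vadd a b) != (q8 m a != q8 m b)) := rfl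

end H35.U6E
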